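import Cfsg.Prelude.Def_GeometricClasses
import Cfsg.Agent.Linear.Elusive.Criterion

/-!
Endomorphisms permuting the summands of an equidimensional decomposition.
-/

set_option autoImplicit false
set_option linter.unusedSectionVars false

namespace Cfsg.Agent.H73.Imprim

open Polynomial Module Finset Cfsg.Agent.Linear.Elusive

variable {F : Type*} [Field F] {κ : Type} [Fintype κ]

/-- `T` permutes the summands of some decomposition into `t` spaces of dimension `a`. -/
def Stab (a t : ℕ) (T : End F (κ → F)) : Prop :=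
  ∃ D : Fin t → Submodule F (κ → F), Cfsg.Geo.IsMDecomposition a D ∧
    ∃ σ : Equiv.Perm (Fin t), ∀ j, (D j).map T = D (σ j)

variable {V : Type*} [AddCommGroup V] [Module F V]

/-- The sum map out of a finite family of subspaces. -/
noncomputable def sumMap {ι : Type*} [Fintype ι] (D : ι → Submodule F V) : (Π i, D i) →ₗ[F] V :=
  ∑ i, (D i).subtype ∘ₗ LinearMap.proj i

theorem sumMap_apply {ι : Type*} [Fintype ι] (D : ι → Submodule F V) (x : Π i, D i) :
    sumMap D x = ∑ i, (x i : V) := by
  simp [sumMap, LinearMap.sum_apply]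

theorem range_sumMap {ι : Type*} [Fintype ι] (D : ι → Submodule F V) :
    LinearMap.range (sumMap D) = iSup D := by
  classical
  refine le_antisymm ?_ (iSup_le fun i v hv => ?_)
  · rintro _ ⟨x, rfl⟩
    rw [sumMap_apply]
    exact Submodule.sum_mem _ fun i _ => Submodule.mem_iSup_of_mem i (x i).2
  · refine ⟨Pi.single i ⟨v, hv⟩, ?_⟩
    rw [sumMap_apply, Finset.sum_eq_single i]
    · simp
    · intro j _ hj
      simp [Pi.single_eq_of_ne hj]
    · simp

theorem sumMap_injective {ι : Type*} [Fintype ι] {D : ι → Submodule F V} (h : iSupIndep D) :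
    Function.Injective (sumMap D) := by
  rw [← LinearMap.ker_eq_bot, LinearMap.ker_eq_bot']
  intro x hx
  rw [sumMap_apply] at hx
  funext i
  exact Subtype.ext
    ((iSupIndep_iff_finsetSum_eq_zero_imp_eq_zero D).1 h Finset.univ (fun i => (x i : V))
      (fun i _ => (x i).2) hx i (Finset.mem_univ i))

theorem indep_of_injective {ι : Type*} [Fintype ι] {D : ι → Submodule F V}
    (h : Function.Injective (sumMap D)) : iSupIndep D := by
  classical
  rw [iSupIndep_iff_finsetSum_eq_zero_imp_eq_zero]
  intro s v hv hsum i hi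
  let x : Π i, D i := fun i => if hi : i ∈ s then ⟨v i, hv i hi⟩ else 0
  have hx : sumMap D x = 0 := by
    rw [sumMap_apply, ← hsum, ← Finset.sum_subset (Finset.subset_univ s) (fun j _ hj => by simp [x, hj])]
    exact Finset.sum_congr rfl fun j hj => by simp [x, hj]
  have h0 := congrFun (h (hx.trans (map_zero (sumMap D)).symm)) i
  simpa [x, hi] using congrArg Subtype.val h0

theorem indep_coord {ι : Type*} [Fintype ι] {D : ι → Submodule F V} (h : iSupIndep D) {v w : ι → V}
    (hv : ∀ i, v i ∈ D i) (hw : ∀ i, w i ∈ D i) (he : ∑ i, v i = ∑ i, w i) (i : ι) : v i = w i :=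
  (iSupIndep_iff_finsetSum_eq_imp_eq D).1 h Finset.univ v w (fun i _ => ⟨hv i, hw i⟩) he i
    (Finset.mem_univ i)

theorem sum_finrank_le {ι : Type*} [Fintype ι] [FiniteDimensional F V] {D : ι → Submodule F V}
    (h : iSupIndep D) {W : Submodule F V} (hW : ∀ i, D i ≤ W) :
    ∑ i, finrank F (D i) ≤ finrank F W := by
  classical
  rw [← Module.finrank_pi_fintype F, ← LinearMap.finrank_range_of_inj (sumMap_injective h),
    range_sumMap]
  exact Submodule.finrank_mono (iSup_le hW)

/-- Spanning families of small subspaces are decompositions. -/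
theorem isMDecomposition_of_iSup {n a t : ℕ} (hcard : Fintype.card κ = n) (hat : n = a * t)
    (ha : 1 ≤ a) (ht : 2 ≤ t) {D : Fin t → Submodule F (κ → F)} (hle : ∀ i, finrank F (D i) ≤ a)
    (htop : iSup D = ⊤) : Cfsg.Geo.IsMDecomposition a D := by
  classical
  have hs : Function.Surjective (sumMap D) := LinearMap.range_eq_top.1 (by rw [range_sumMap, htop])
  have h1 := LinearMap.finrank_le_finrank_of_surjective hs
  have h2 : ∑ i, finrank F (D i) ≤ ∑ _i : Fin t, a := Finset.sum_le_sum fun i _ => hle i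
  rw [Module.finrank_fintype_fun_eq_card, Module.finrank_pi_fintype, hcard] at h1
  have h4 : ∑ _i : Fin t, a = n := by simp [hat, mul_comm]
  have h3 : ∑ i, finrank F (D i) = ∑ _i : Fin t, a := by omega
  have h5 : finrank F (Π i, D i) = finrank F (κ → F) := by
    rw [Module.finrank_fintype_fun_eq_card, Module.finrank_pi_fintype, hcard]
    omega
  exact ⟨ht, ha, fun i => (Finset.sum_eq_sum_iff_of_le fun i _ => hle i).1 h3 i (Finset.mem_univ i),
    indep_of_injective ((LinearMap.injective_iff_surjective_of_finrank_eq_finrank h5).2 hs), htop⟩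

theorem injective_of_pow_eq {r : ℕ} (hr : 0 < r) {z : F} (hz : z ≠ 0) {T : End F V}
    (h : T ^ r = z • 1) : Function.Injective T := by
  intro u v huv
  have h1 : (T ^ r) u = (T ^ r) v := by
    rw [show r = r - 1 + 1 by omega, pow_succ, Module.End.mul_apply, Module.End.mul_apply, huv]
  rw [h, LinearMap.smul_apply, LinearMap.smul_apply, Module.End.one_apply, Module.End.one_apply] at h1
  exact smul_right_injective V hz h1

theorem map_eq_of_inv [FiniteDimensional F V] {T : End F V} (hinj : Function.Injective T)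
    {U : Submodule F V} (hU : Inv T U) : U.map T = U :=
  Submodule.eq_of_le_of_finrank_eq hU
    (Submodule.equivMapOfInjective T hinj U).finrank_eq.symm

theorem stab_smul {a t : ℕ} {T : End F (κ → F)} {b : F} (hb : b ≠ 0) :
    Stab a t (b • T) ↔ Stab a t T := by
  unfold Stab
  simp only [Submodule.map_smul T _ b hb]

/-- The builder: some spaces moved cyclically, the others invariant. -/
theorem stab_of_parts {n a t r : ℕ} (hcard : Fintype.card κ = n) (hat : n = a * t) (ha : 1 ≤ a)
    (ht : 2 ≤ t) (hr : 0 < r) {z : F} (hz : z ≠ 0) {T : End F (κ → F)} (hT : T ^ r = z • 1)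
    {u w : ℕ} (htu : t = u * r + w) (E : Fin u → Submodule F (κ → F))
    (G : Fin w → Submodule F (κ → F)) (hE : ∀ i, finrank F (E i) ≤ a)
    (hG : ∀ i, finrank F (G i) ≤ a) (iG : ∀ i, Inv T (G i))
    (htop : ∀ S : Submodule F (κ → F), Inv T S → (∀ i, E i ≤ S) → (∀ i, G i ≤ S) → S = ⊤) :
    Stab a t T := by
  classical
  have : NeZero r := ⟨hr.ne'⟩
  have hcardι : Fintype.card ((Fin u × Fin r) ⊕ Fin w) = t := by simp [htu]
  let e : ((Fin u × Fin r) ⊕ Fin w) ≃ Fin t := Fintype.equivFinOfCardEq hcardι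
  let D0 : (Fin u × Fin r) ⊕ Fin w → Submodule F (κ → F) :=
    Sum.elim (fun x => (E x.1).map (T ^ (x.2 : ℕ))) G
  let π : Equiv.Perm ((Fin u × Fin r) ⊕ Fin w) :=
    Equiv.sumCongr (Equiv.prodCongr (Equiv.refl _) (Equiv.addRight (1 : Fin r))) (Equiv.refl _)
  have hinj := injective_of_pow_eq hr hz hT
  have hmap : ∀ i, (D0 i).map T = D0 (π i) := by
    rintro (⟨b, i⟩ | i)
    · show ((E b).map (T ^ (i : ℕ))).map T = (E b).map (T ^ ((i + 1 : Fin r) : ℕ))
      rw [← Submodule.map_comp, ← Module.End.mul_eq_comp, ← pow_succ', Fin.val_add, Fin.coe_ofNat_eq_mod,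
        Nat.add_mod_mod]
      rcases Nat.lt_or_ge ((i : ℕ) + 1) r with h | h
      · rw [Nat.mod_eq_of_lt h]
      · have he : (i : ℕ) + 1 = r := by omega
        rw [he, Nat.mod_self, hT, Submodule.map_smul _ _ _ hz, pow_zero]
    · exact map_eq_of_inv hinj (iG i)
  refine ⟨fun j => D0 (e.symm j), isMDecomposition_of_iSup hcard hat ha ht ?_ ?_,
    e.permCongr π, fun j => ?_⟩
  · intro j
    rcases e.symm j with ⟨b, i⟩ | i
    · exact (Submodule.finrank_map_le _ _).trans (hE b)
    · exact hG i
  · rw [Equiv.iSup_comp (g := D0) e.symm]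
    refine htop _ ?_ (fun b => ?_) fun i => le_iSup D0 (Sum.inr i)
    · show (⨆ i, D0 i).map T ≤ _
      rw [Submodule.map_iSup]
      exact iSup_le fun i => (hmap i).le.trans (le_iSup D0 _)
    · refine le_trans ?_ (le_iSup D0 (Sum.inl (b, 0)))
      show E b ≤ (E b).map (T ^ ((0 : Fin r) : ℕ))
      simp [Module.End.one_eq_id]
  · simp [hmap, Equiv.permCongr_apply]

/-- Invariant spaces with prescribed dimensions spanning a given one. -/
theorem exists_pieces [FiniteDimensional F V] {T : End F V} {Q P : F[X]} {d : ℕ}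
    (hsq : Squarefree Q) (hQ : aeval T Q = 0) (hP : Uniform P d) :
    ∀ (t : ℕ) (s : Fin t → ℕ) (A : Submodule F V), Inv T A → (∀ v ∈ A, aeval T P v = 0) →
      (∑ i, s i) * d = finrank F A →
      ∃ U : Fin t → Submodule F V,
        (∀ i, U i ≤ A ∧ Inv T (U i) ∧ finrank F (U i) = s i * d) ∧ iSup U = A := by
  intro t
  induction t with
  | zero =>
    intro s A _ _ hdim
    refine ⟨fun i => i.elim0, fun i => i.elim0, ?_⟩
    rw [iSup_of_empty, eq_comm, ← Submodule.finrank_eq_zero]
    simpa using hdim.symm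
  | succ t ih =>
    intro s A hA hk hdim
    rw [Fin.sum_univ_succ, Nat.add_mul] at hdim
    obtain ⟨U0, h0A, i0, d0⟩ := exists_inv_finrank hP hA hk (s 0) (by omega)
    obtain ⟨W, iW, hc⟩ := exists_compl hsq hQ i0
    have hsplit : U0 ⊔ A ⊓ W = A := by
      rw [inf_comm A W, ← sup_inf_assoc_of_le W h0A, hc.sup_eq_top, top_inf_eq]
    have hd := finrank_sup_eq hc.disjoint (le_refl U0) (inf_le_right : A ⊓ W ≤ W)
    rw [hsplit, d0] at hd
    obtain ⟨U, hU, hsup⟩ := ih (fun i => s i.succ) (A ⊓ W) (hA.inf iW) (fun v hv => hk v hv.1)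
      (by omega)
    refine ⟨Fin.cons U0 U, ?_, ?_⟩
    · intro i
      induction i using Fin.cases with
      | zero => exact ⟨h0A, i0, d0⟩
      | succ i =>
        rw [Fin.cons_succ]
        exact ⟨(hU i).1.trans inf_le_left, (hU i).2.1, (hU i).2.2⟩
    · refine le_antisymm (iSup_le fun i => ?_) ?_
      · induction i using Fin.cases with
        | zero => exact h0A
        | succ i =>
          rw [Fin.cons_succ]
          exact (hU i).1.trans inf_le_left
      · conv_lhs => rw [← hsplit]
        refine sup_le (le_iSup (Fin.cons (α := fun _ => Submodule F V) U0 U) 0) ?_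
        rw [← hsup]
        refine iSup_le fun i => ?_
        exact le_trans (by rw [Fin.cons_succ]) (le_iSup (Fin.cons (α := fun _ => Submodule F V) U0 U) i.succ)

/-- An invariant subspace meeting an irreducible piece contains it. -/
theorem le_of_mem [FiniteDimensional F V] {T : End F V} {P : F[X]} {d : ℕ} (hP : Uniform P d)
    {U S : Submodule F V} (hU : Inv T U) (hk : ∀ v ∈ U, aeval T P v = 0) (hd : finrank F U ≤ d)
    (hS : Inv T S) {v : V} (hvU : v ∈ U) (hvS : v ∈ S) (hv : v ≠ 0) : U ≤ S := by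
  have h1 : 0 < finrank F ↥(U ⊓ S) := by
    rw [Nat.pos_iff_ne_zero]
    intro h
    rw [Submodule.finrank_eq_zero] at h
    exact hv ((Submodule.mem_bot F).1 (h ▸ ⟨hvU, hvS⟩))
  have h2 := Nat.le_of_dvd h1 (dvd_finrank hP (hU.inf hS) fun v hv => hk v hv.1)
  exact inf_eq_left.1 (Submodule.eq_of_le_of_finrank_le inf_le_left (hd.trans h2))

theorem exists_bounded_sum (b : ℕ) : ∀ (t j : ℕ), j ≤ t * b →
    ∃ s : Fin t → ℕ, (∀ i, s i ≤ b) ∧ ∑ i, s i = j := by
  intro t
  induction t with
  | zero => intro j hj; exact ⟨fun i => i.elim0, fun i => i.elim0, by simpa using (by omega : j = 0).symm⟩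
  | succ t ih =>
    intro j hj
    rw [Nat.add_mul, one_mul] at hj
    obtain ⟨s, h1, h2⟩ := ih (j - min b j) (by omega)
    refine ⟨Fin.cons (min b j) s, Fin.cases (by simp) (fun i => by simpa using h1 i), ?_⟩
    rw [Fin.sum_cons, h2]
    omega

end Cfsg.Agent.H73.Imprim
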