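import Cfsg.Agent.H73.Imprim.Basic
import Cfsg.Agent.Linear.Elusive.Count
import Mathlib.LinearAlgebra.Matrix.GeneralLinearGroup.Card

/-!
A prime dividing the number of decompositions has small order of `q`.
-/

set_option autoImplicit false
set_option linter.unusedSectionVars false

namespace Cfsg.Agent.H73.Imprim

open Module Finset Cfsg.Agent.Linear.Elusive
open scoped Pointwise

variable {F : Type*} [Field F] [Fintype F]

/-- The standard decomposition. -/
theorem exists_decomposition {n a t : ℕ} (hat : n = a * t) (ha : 1 ≤ a) (ht : 2 ≤ t) :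
    ∃ D : Fin t → Submodule F (Fin n → F), Cfsg.Geo.IsMDecomposition a D := by
  classical
  have h1 : finrank F (Fin t → Fin a → F) = finrank F (Fin n → F) := by
    rw [Module.finrank_pi_fintype, Finset.sum_const, Finset.card_univ, Module.finrank_fin_fun, Module.finrank_fin_fun, Fintype.card_fin, smul_eq_mul, hat, mul_comm]
  let e := LinearEquiv.ofFinrankEq _ _ h1
  refine ⟨fun j => LinearMap.range (e.toLinearMap ∘ₗ LinearMap.single F (fun _ => Fin a → F) j),
    isMDecomposition_of_iSup (Fintype.card_fin n) hat ha ht (fun j => ?_) (eq_top_iff.2 fun v _ => ?_)⟩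
  · exact (LinearMap.finrank_range_le _).trans (Module.finrank_fin_fun (R := F)).le
  · rw [← e.apply_symm_apply v, ← Finset.univ_sum_single (e.symm v), map_sum]
    exact Submodule.sum_mem _ fun j _ =>
      Submodule.mem_iSup_of_mem j ⟨e.symm v j, rfl⟩

/-- Any two decompositions are conjugate. -/
theorem exists_conj {n a t : ℕ} {D D' : Fin t → Submodule F (Fin n → F)}
    (h : Cfsg.Geo.IsMDecomposition a D) (h' : Cfsg.Geo.IsMDecomposition a D') :
    ∃ g : (Fin n → F) ≃ₗ[F] (Fin n → F), ∀ j, (D j).map g.toLinearMap = D' j := by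
  classical
  have hb : ∀ {E : Fin t → Submodule F (Fin n → F)}, Cfsg.Geo.IsMDecomposition a E →
      Function.Bijective (sumMap E) := fun {E} hE =>
    ⟨sumMap_injective hE.indep, LinearMap.range_eq_top.1 (by rw [range_sumMap, hE.iSup_eq_top])⟩
  let e : ∀ j, D j ≃ₗ[F] D' j := fun j =>
    LinearEquiv.ofFinrankEq _ _ (by rw [h.finrank_eq, h'.finrank_eq])
  let g := ((LinearEquiv.ofBijective (sumMap D) (hb h)).symm.trans (LinearEquiv.piCongrRight e)).trans
    (LinearEquiv.ofBijective (sumMap D') (hb h'))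
  refine ⟨g, fun j => Submodule.eq_of_le_of_finrank_eq ?_ ?_⟩
  · rintro _ ⟨v, hv, rfl⟩
    have hsingle : ∀ (E : Fin t → Submodule F (Fin n → F)) (u : E j), sumMap E (Pi.single j u) = u := by
      intro E u
      rw [sumMap_apply, Finset.sum_eq_single j]
      · simp
      · intro i _ hi
        simp [Pi.single_eq_of_ne hi]
      · simp
    have h1 : (LinearEquiv.ofBijective (sumMap D) (hb h)).symm v = Pi.single j ⟨v, hv⟩ := by
      rw [LinearEquiv.symm_apply_eq]
      exact (hsingle D ⟨v, hv⟩).symm
    show sumMap D' (LinearEquiv.piCongrRight e ((LinearEquiv.ofBijective (sumMap D) (hb h)).symm v)) ∈ _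
    rw [h1]
    have h2 : LinearEquiv.piCongrRight e (Pi.single j ⟨v, hv⟩) = Pi.single j (e j ⟨v, hv⟩) := by
      funext i
      rw [LinearEquiv.piCongrRight_apply]
      exact Pi.apply_single (fun i => e i) (fun i => map_zero (e i)) j _ i
    rw [h2, hsingle]
    exact (e j ⟨v, hv⟩).2
  · rw [LinearEquiv.finrank_map_eq, h.finrank_eq, h'.finrank_eq]

/-- The number of decompositions divides the order of the general linear group. -/
theorem card_dvd {n a t : ℕ} (hat : n = a * t) (ha : 1 ≤ a) (ht : 2 ≤ t) :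
    Nat.card {D : Fin t → Submodule F (Fin n → F) // Cfsg.Geo.IsMDecomposition a D} ∣
      Nat.card (GL (Fin n) F) := by
  classical
  obtain ⟨D0, hD0⟩ := exists_decomposition (F := F) hat ha ht
  let G := (Fin n → F) ≃ₗ[F] (Fin n → F)
  have hsm : ∀ (g : G) (j : Fin t), (g • D0) j = (D0 j).map g.toLinearMap := fun g j => rfl
  have horb : MulAction.orbit G D0 =
      {D : Fin t → Submodule F (Fin n → F) | Cfsg.Geo.IsMDecomposition a D} := by
    ext D
    constructor
    · rintro ⟨g, rfl⟩
      refine isMDecomposition_of_iSup (Fintype.card_fin n) hat ha ht (fun j => ?_) ?_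
      · show finrank F ↥((D0 j).map g.toLinearMap) ≤ a
        rw [LinearEquiv.finrank_map_eq, hD0.finrank_eq]
      · show ⨆ j, (D0 j).map g.toLinearMap = ⊤
        rw [← Submodule.map_iSup, hD0.iSup_eq_top, Submodule.map_top, LinearEquiv.range]
    · intro hD
      obtain ⟨g, hg⟩ := exists_conj hD0 hD
      exact ⟨g, funext fun j => hg j⟩
  have h1 : Nat.card {D : Fin t → Submodule F (Fin n → F) // Cfsg.Geo.IsMDecomposition a D} =
      (MulAction.stabilizer G D0).index := by
    rw [MulAction.index_stabilizer, horb]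
    rfl
  have h2 : Nat.card (GL (Fin n) F) = Nat.card G :=
    Nat.card_congr ((Matrix.GeneralLinearGroup.toLin (n := Fin n) (R := F)).trans
      (LinearMap.GeneralLinearGroup.generalLinearEquiv F (Fin n → F))).toEquiv
  rw [h1, h2]
  exact Subgroup.index_dvd_card _

/-- Permutations of the indices act freely on decompositions. -/
theorem factorial_dvd {n a t : ℕ} :
    t.factorial ∣ Nat.card {D : Fin t → Submodule F (Fin n → F) // Cfsg.Geo.IsMDecomposition a D} := by
  classical
  set X := {D : Fin t → Submodule F (Fin n → F) // Cfsg.Geo.IsMDecomposition a D}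
  letI : MulAction (Equiv.Perm (Fin t)) X :=
    { smul := fun σ D => ⟨fun j => D.1 (σ⁻¹ j),
        ⟨D.2.two_le, D.2.pos, fun j => D.2.finrank_eq _, D.2.indep.comp (Equiv.injective _),
          by rw [Equiv.iSup_comp (g := D.1) σ⁻¹]; exact D.2.iSup_eq_top⟩⟩
      one_smul := fun D => Subtype.ext (funext fun j => by simp [HSMul.hSMul])
      mul_smul := fun σ τ D => Subtype.ext (funext fun j => by simp [HSMul.hSMul, mul_inv_rev]) }
  have hstab : ∀ D : X, MulAction.stabilizer (Equiv.Perm (Fin t)) D = ⊥ := by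
    intro D
    rw [Subgroup.eq_bot_iff_forall]
    intro σ hσ
    have hinj : Function.Injective D.1 := D.2.indep.injective fun j hj => by
      have := D.2.finrank_eq j
      rw [hj, finrank_bot] at this
      have := D.2.pos
      omega
    refine inv_eq_one.1 (Equiv.ext fun j => hinj ?_)
    exact congrFun (congrArg Subtype.val (MulAction.mem_stabilizer_iff.1 hσ)) j
  rw [Nat.card_congr (MulAction.selfEquivOrbitsQuotientProd hstab), Nat.card_prod, Nat.card_perm,
    Nat.card_fin]
  exact dvd_mul_left _ _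

theorem orderOf_le {p q r n a t : ℕ} [Fact p.Prime] [CharP F p] [Fact r.Prime]
    (hq : Fintype.card F = q) (hrp : r ≠ p) (hat : n = a * t) (ha : 1 ≤ a) (ht : 2 ≤ t)
    (hΩ : r ∣ Nat.card {D : Fin t → Submodule F (Fin n → F) // Cfsg.Geo.IsMDecomposition a D} /
      Nat.factorial t) :
    orderOf (q : ZMod r) ≤ n := by
  by_contra hlt
  have h1 : r ∣ Nat.card (GL (Fin n) F) :=
    (hΩ.trans (Nat.div_dvd_of_dvd factorial_dvd)).trans (card_dvd hat ha ht)
  rw [Matrix.card_GL_field, hq] at h1
  obtain ⟨i, -, hi⟩ := ((Fact.out : r.Prime).prime.dvd_finsetProd_iff _).1 h1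
  have h2 : q ^ n - q ^ (i : ℕ) = q ^ (i : ℕ) * (q ^ (n - i) - 1) := by
    rw [Nat.mul_sub, mul_one, ← pow_add, Nat.add_sub_cancel' i.2.le]
  rw [h2] at hi
  rcases (Fact.out : r.Prime).dvd_mul.1 hi with h | h
  · exact not_dvd_q (F := F) hq hrp ((Fact.out : r.Prime).dvd_of_dvd_pow h)
  · have h3 := (dvd_pow_sub_one_iff (hq ▸ Fintype.card_pos : 1 ≤ q) _).1 h
    have := Nat.le_of_dvd (Nat.sub_pos_of_lt i.2) h3
    omega

end Cfsg.Agent.H73.Imprim
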