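import Cfsg.Agent.H73.Imprim.Sufficiency

/-!
Elements of order `r` permuting the summands of a decomposition: what this costs.
-/

set_option autoImplicit false
set_option linter.unusedSectionVars false

namespace Cfsg.Agent.H73.Imprim

open Polynomial Module Finset Cfsg.Agent.Linear.Elusive

variable {F : Type*} [Field F] [Fintype F] {κ : Type} [Fintype κ] {a t r : ℕ}

/-- An endomorphism of order dividing `r` with the decomposition it permutes. -/
structure Perms (r a : ℕ) (T : End F (κ → F)) (D : Fin t → Submodule F (κ → F))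
    (σ : Equiv.Perm (Fin t)) : Prop where
  pow_eq : T ^ r = 1
  decomp : Cfsg.Geo.IsMDecomposition a D
  map_eq : ∀ j, (D j).map T = D (σ j)

namespace Perms

variable [Fact r.Prime] {T : End F (κ → F)} {D : Fin t → Submodule F (κ → F)}
  {σ : Equiv.Perm (Fin t)} (h : Perms r a T D σ)

include h

theorem injective : Function.Injective T :=
  injective_of_pow_eq (Fact.out : r.Prime).pos one_ne_zero (by rw [h.pow_eq, one_smul])

theorem D_injective : Function.Injective D := by
  refine h.decomp.indep.injective fun j hj => ?_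
  have h1 := h.decomp.finrank_eq j
  rw [hj, finrank_bot] at h1
  have := h.decomp.pos
  omega

theorem map_pow_eq : ∀ (k : ℕ) j, (D j).map (T ^ k) = D ((σ ^ k) j) := by
  intro k
  induction k with
  | zero => intro j; simp [Module.End.one_eq_id]
  | succ k ih =>
    intro j
    rw [pow_succ', Module.End.mul_eq_comp, Submodule.map_comp, ih, h.map_eq, pow_succ',
      Equiv.Perm.mul_apply]

theorem perm_pow : σ ^ r = 1 := Equiv.ext fun j => h.D_injective (by
  rw [← h.map_pow_eq, h.pow_eq]
  simp [Module.End.one_eq_id])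

theorem orbit_injective {j : Fin t} (hj : σ j ≠ j) :
    Function.Injective (fun i : Fin r => (σ ^ (i : ℕ)) j) := by
  have hper : Function.minimalPeriod (σ : Fin t → Fin t) j = r := by
    have h1 : Function.IsPeriodicPt (σ : Fin t → Fin t) r j := by
      show (σ : Fin t → Fin t)^[r] j = j
      rw [← Equiv.Perm.coe_pow, h.perm_pow, Equiv.Perm.one_apply]
    rcases (Nat.dvd_prime (Fact.out : r.Prime)).1 h1.minimalPeriod_dvd with h2 | h2
    · exact absurd (Function.minimalPeriod_eq_one_iff_isFixedPt.1 h2) hj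
    · exact h2
  intro k l hkl
  refine Fin.ext (Function.iterate_injOn_Iio_minimalPeriod (f := (σ : Fin t → Fin t)) (x := j)
    (by simp [hper]) (by simp [hper]) ?_)
  simpa [← Equiv.Perm.coe_pow] using hkl

/-- The translates of a moved summand are independent. -/
theorem translates_eq_zero {j : Fin t} (hj : σ j ≠ j) {w : ℕ → κ → F} (hw : ∀ i, w i ∈ D j)
    (hsum : ∑ i ∈ Finset.range r, (T ^ i) (w i) = 0) : ∀ i < r, w i = 0 := by
  intro i hi
  rw [← Fin.sum_univ_eq_sum_range fun i => (T ^ i) (w i)] at hsum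
  have h1 : iSupIndep (fun i : Fin r => D ((σ ^ (i : ℕ)) j)) :=
    h.decomp.indep.comp (h.orbit_injective hj)
  have h2 := (iSupIndep_iff_finsetSum_eq_zero_imp_eq_zero _).1 h1 Finset.univ
    (fun i : Fin r => (T ^ (i : ℕ)) (w i))
    (fun i _ => by rw [← h.map_pow_eq]; exact Submodule.mem_map_of_mem (hw i)) hsum ⟨i, hi⟩
    (Finset.mem_univ _)
  have h3 : Function.Injective ⇑(T ^ i) := by
    rw [Module.End.coe_pow]
    exact h.injective.iterate i
  exact h3 (h2.trans (map_zero (T ^ i)).symm)

theorem sum_mem_fix (v : κ → F) : ∑ i ∈ Finset.range r, (T ^ i) v ∈ fixSpace T := by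
  rw [mem_fixSpace, map_sum]
  have h1 : ∑ i ∈ Finset.range (r + 1), (T ^ i) v =
      ∑ i ∈ Finset.range r, (T ^ i) v + v := by
    rw [Finset.sum_range_succ, h.pow_eq, Module.End.one_apply]
  rw [Finset.sum_range_succ', pow_zero, Module.End.one_apply] at h1
  exact (Finset.sum_congr rfl fun i _ => by rw [pow_succ', Module.End.mul_apply]).trans
    (add_right_cancel h1)

/-- A moved summand leaves a copy of itself in the fixed space. -/
theorem le_fix {j : Fin t} (hj : σ j ≠ j) : a ≤ finrank F ↥(fixSpace T) := by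
  let φ : D j →ₗ[F] fixSpace T :=
    ((∑ i ∈ Finset.range r, T ^ i).comp (D j).subtype).codRestrict _ fun v => by
      simpa [LinearMap.sum_apply] using h.sum_mem_fix (v : κ → F)
  have hφ : Function.Injective φ := by
    rw [← LinearMap.ker_eq_bot, LinearMap.ker_eq_bot']
    intro v hv
    have h1 := congrArg Subtype.val hv
    simp [φ] at h1
    have h2 := h.translates_eq_zero hj (w := fun _ => (v : κ → F)) (fun _ => v.2) h1 0
      (Fact.out : r.Prime).pos
    exact Subtype.ext h2
  have := LinearMap.finrank_le_finrank_of_injective hφ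
  rwa [h.decomp.finrank_eq] at this

/-- A moved summand forces the minimal polynomial to have degree at least `r`. -/
theorem poly_eq_zero {j : Fin t} (hj : σ j ≠ j) {P : F[X]} (hdeg : P.natDegree < r)
    (hP : aeval T P = 0) : P = 0 := by
  obtain ⟨v, hv, hv0⟩ := Submodule.exists_mem_ne_zero_of_ne_bot (p := D j) fun hb => by
    have h1 := h.decomp.finrank_eq j
    rw [hb, finrank_bot] at h1
    have := h.decomp.pos
    omega
  rw [aeval_eq_sum_range' hdeg] at hP
  have h1 := LinearMap.congr_fun hP v
  simp only [LinearMap.sum_apply, LinearMap.smul_apply, LinearMap.zero_apply] at h1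
  ext i
  rw [coeff_zero]
  by_cases hi : i < r
  · have h2 := h.translates_eq_zero hj (w := fun i => P.coeff i • v)
      (fun i => Submodule.smul_mem _ _ hv)
      (by rw [← h1]; exact Finset.sum_congr rfl fun i _ => map_smul _ _ _) i hi
    exact (smul_eq_zero.1 h2).resolve_right hv0
  · exact coeff_eq_zero_of_natDegree_lt (by omega)

/-- A moved summand moves `r - 1` copies of itself. -/
theorem le_move {j : Fin t} (hj : σ j ≠ j) :
    a * (r - 1) + finrank F ↥(fixSpace T) ≤ Fintype.card κ := by
  have hr := (Fact.out : r.Prime)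
  let ψ : (Fin (r - 1) → D j) × fixSpace T →ₗ[F] κ → F :=
    (∑ i : Fin (r - 1), (T ^ (i : ℕ)).comp ((D j).subtype.comp (LinearMap.proj i))).coprod
      (fixSpace T).subtype
  have hψ : Function.Injective ψ := by
    rw [← LinearMap.ker_eq_bot, LinearMap.ker_eq_bot']
    rintro ⟨w, u⟩ hwu
    simp only [ψ, LinearMap.coprod_apply, LinearMap.sum_apply, LinearMap.comp_apply,
      LinearMap.proj_apply, Submodule.subtype_apply] at hwu
    let w' : ℕ → κ → F := fun i => if hi : i < r - 1 then (w ⟨i, hi⟩ : κ → F) else 0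
    have hw' : ∀ i, w' i ∈ D j := fun i => by
      by_cases hi : i < r - 1
      · simp [w', hi]
      · simp [w', hi]
    let prev : ℕ → κ → F := fun i => if i = 0 then 0 else w' (i - 1)
    have hprev : ∀ i, prev i ∈ D j := fun i => by
      by_cases hi : i = 0
      · simp [prev, hi]
      · simpa [prev, hi] using hw' (i - 1)
    set y := ∑ i ∈ Finset.range (r - 1), (T ^ i) (w' i) with hy
    have hyu : y + (u : κ → F) = 0 := by
      rw [← hwu, hy, ← Fin.sum_univ_eq_sum_range fun i => (T ^ i) (w' i)]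
      congr 1
      exact Finset.sum_congr rfl fun i _ => by simp [w', i.2]
    have hTy : T y = y := by
      rw [eq_neg_of_add_eq_zero_left hyu, map_neg, mem_fixSpace.1 u.2]
    have hr1 : r - 1 + 1 = r := by have := hr.two_le; omega
    have e1 : ∑ i ∈ Finset.range r, (T ^ i) (prev i) = T y := by
      conv_lhs => rw [← hr1, Finset.sum_range_succ']
      simp only [prev, if_pos, map_zero, add_zero, Nat.succ_ne_zero, if_false, Nat.add_sub_cancel]
      rw [hy, map_sum]
      exact Finset.sum_congr rfl fun i _ => by rw [pow_succ', Module.End.mul_apply]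
    have e2 : ∑ i ∈ Finset.range r, (T ^ i) (w' i) = y := by
      conv_lhs => rw [← hr1, Finset.sum_range_succ]
      simp [w', hy]
    have key := h.translates_eq_zero hj (w := fun i => prev i - w' i)
      (fun i => sub_mem (hprev i) (hw' i))
      (by simp only [map_sub, Finset.sum_sub_distrib]; rw [e1, e2, hTy, sub_self])
    have hzero : ∀ i, i < r → w' i = 0 := by
      intro i
      induction i with
      | zero =>
        intro hi
        simpa [prev] using key 0 hi
      | succ i ih =>
        intro hi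
        have := key (i + 1) hi
        simp only [prev, Nat.succ_ne_zero, if_false, Nat.add_sub_cancel] at this
        rw [ih (by omega), zero_sub, neg_eq_zero] at this
        exact this
    have hw0 : w = 0 := funext fun i => Subtype.ext (by simpa [w', i.2] using hzero i (by omega))
    refine Prod.ext hw0 (Subtype.ext ?_)
    have hy0 : y = 0 := Finset.sum_eq_zero fun i hi => by
      rw [hzero i (by rw [Finset.mem_range] at hi; omega), map_zero]
    simpa [hy0] using hyu
  have := LinearMap.finrank_le_finrank_of_injective hψ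
  simpa [Module.finrank_prod, Module.finrank_pi_fintype, h.decomp.finrank_eq, mul_comm] using this

theorem inv_of_fixed {j : Fin t} (hj : σ j = j) : Inv T (D j) := ((h.map_eq j).trans (by rw [hj])).le

variable {p : ℕ} [Fact p.Prime] [CharP F p] {q : ℕ}

theorem fixed_le_fix (hq : Fintype.card F = q) (hrp : r ≠ p) (hac : a < orderOf (q : ZMod r))
    {j : Fin t} (hj : σ j = j) : D j ≤ fixSpace T := by
  have h1 := split_finrank hrp h.pow_eq (h.inv_of_fixed hj)
  have h2 := moveSpace_dvd hq hrp (D j) (h.inv_of_fixed hj)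
  rw [h.decomp.finrank_eq] at h1
  have h3 := Nat.eq_zero_of_dvd_of_lt h2 (by omega)
  exact inf_eq_left.1 (Submodule.eq_of_le_of_finrank_le inf_le_left
    (by rw [h.decomp.finrank_eq]; omega))

theorem eq_one_of_fixed (hq : Fintype.card F = q) (hrp : r ≠ p) (hac : a < orderOf (q : ZMod r))
    (hall : ∀ j, σ j = j) : T = 1 := by
  refine LinearMap.ext fun v => mem_fixSpace.1 ?_
  have hv : v ∈ iSup D := h.decomp.iSup_eq_top ▸ Submodule.mem_top
  exact iSup_le (fun j => h.fixed_le_fix hq hrp hac (hall j)) hv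

theorem mod_le_fix (hq : Fintype.card F = q) (hrp : r ≠ p) (hall : ∀ j, σ j = j) :
    t * (a % orderOf (q : ZMod r)) ≤ finrank F ↥(fixSpace T) := by
  have h1 : ∀ j, a % orderOf (q : ZMod r) ≤ finrank F ↥(D j ⊓ fixSpace T) := by
    intro j
    have h2 := split_finrank hrp h.pow_eq (h.inv_of_fixed (hall j))
    obtain ⟨k, hk⟩ := moveSpace_dvd hq hrp (D j) (h.inv_of_fixed (hall j))
    rw [h.decomp.finrank_eq, hk] at h2
    rw [h2, Nat.add_mul_mod_self_left]
    exact Nat.mod_le _ _
  refine le_trans ?_ (sum_finrank_le (h.decomp.indep.mono fun j => inf_le_left)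
    (fun j => (inf_le_right : D j ⊓ fixSpace T ≤ fixSpace T)))
  refine le_trans (le_of_eq ?_) (Finset.sum_le_sum fun j _ => h1 j)
  simp

/-- For lines: at most `r` in an orbit, and a fixed vector for each. -/
theorem card_le (hq : Fintype.card F = q) (hrp : r ≠ p) (ha : a = 1)
    (hc : 1 < orderOf (q : ZMod r)) : t ≤ r * finrank F ↥(fixSpace T) := by
  classical
  have hr := (Fact.out : r.Prime)
  let O : Fin t → Finset (Fin t) := fun j => (Finset.range r).image fun i => (σ ^ i) j
  have hOself : ∀ j, j ∈ O j := fun j =>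
    Finset.mem_image.2 ⟨0, Finset.mem_range.2 hr.pos, by simp⟩
  have hmod : ∀ k : ℕ, σ ^ k = σ ^ (k % r) := fun k => by
    conv_lhs => rw [← Nat.mod_add_div k r, pow_add, pow_mul, h.perm_pow, one_pow, mul_one]
  have hOsub : ∀ i j, i ∈ O j → O i ⊆ O j := by
    intro i j hi x hx
    simp only [O, Finset.mem_image, Finset.mem_range] at hi hx ⊢
    obtain ⟨k, -, rfl⟩ := hi
    obtain ⟨m, -, rfl⟩ := hx
    exact ⟨(m + k) % r, Nat.mod_lt _ hr.pos, by rw [← hmod, pow_add, Equiv.Perm.mul_apply]⟩
  have hOeq : ∀ i j, i ∈ O j → O i = O j := by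
    intro i j hi
    refine (hOsub i j hi).antisymm (hOsub j i ?_)
    simp only [O, Finset.mem_image, Finset.mem_range] at hi ⊢
    obtain ⟨k, hk, rfl⟩ := hi
    exact ⟨(r - k) % r, Nat.mod_lt _ hr.pos, by
      rw [← hmod, ← Equiv.Perm.mul_apply, ← pow_add, Nat.sub_add_cancel hk.le, h.perm_pow,
        Equiv.Perm.one_apply]⟩
  have hDne : ∀ j, ∃ v ∈ D j, v ≠ 0 := fun j => Submodule.exists_mem_ne_zero_of_ne_bot fun hb => by
    have h1 := h.decomp.finrank_eq j
    rw [hb, finrank_bot] at h1
    omega
  choose v hv hv0 using hDne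
  let w : Fin t → κ → F := fun j => ∑ i ∈ Finset.range r, (T ^ i) (v j)
  have hw0 : ∀ j, w j ≠ 0 := by
    intro j hwj
    by_cases hj : σ j = j
    · have hfix := mem_fixSpace.1 (h.fixed_le_fix hq hrp (by omega) hj (hv j))
      have hpow : ∀ i : ℕ, (T ^ i) (v j) = v j := by
        intro i
        induction i with
        | zero => rfl
        | succ i ih => rw [pow_succ, Module.End.mul_apply, hfix, ih]
      simp only [w, hpow, Finset.sum_const, Finset.card_range, ← Nat.cast_smul_eq_nsmul F] at hwj
      exact hv0 j ((smul_eq_zero.1 hwj).resolve_left (cast_ne_zero (F := F) hrp))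
    · exact hv0 j (h.translates_eq_zero hj (w := fun _ => v j) (fun _ => hv j) hwj 0 hr.pos)
  let S : Finset (Finset (Fin t)) := Finset.univ.image O
  have hrep : ∀ A : S, ∃ j, O j = A.1 := fun A => by
    obtain ⟨j, -, hj⟩ := Finset.mem_image.1 A.2
    exact ⟨j, hj⟩
  choose rep hrepeq using hrep
  let P : S → Submodule F (κ → F) := fun A => ⨆ i ∈ (A.1 : Set (Fin t)), D i
  have hP : iSupIndep P := by
    intro A
    refine (h.decomp.indep.disjoint_biSup_biSup' (s := (A.1 : Set (Fin t))) (t := (A.1 : Set (Fin t))ᶜ)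
      disjoint_compl_right (Set.toFinite _)).mono le_rfl (iSup₂_le fun B hB => iSup₂_le fun i hi => ?_)
    refine le_iSup₂ (f := fun i (_ : i ∈ (A.1 : Set (Fin t))ᶜ) => D i) i fun hiA => hB (Subtype.ext ?_)
    have e1 : O i = B.1 := by
      rw [← hrepeq B]
      exact hOeq _ _ (by rw [hrepeq B]; exact hi)
    have e2 : O i = A.1 := by
      rw [← hrepeq A]
      exact hOeq _ _ (by rw [hrepeq A]; exact hiA)
    rw [← e1, e2]
  have hwP : ∀ A, w (rep A) ∈ P A := fun A => Submodule.sum_mem _ fun i hi => by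
    refine Submodule.mem_iSup_of_mem ((σ ^ i) (rep A)) (Submodule.mem_iSup_of_mem ?_ ?_)
    · rw [← hrepeq A]
      exact Finset.mem_image_of_mem _ hi
    · rw [← h.map_pow_eq]
      exact Submodule.mem_map_of_mem (hv _)
  have hli : LinearIndependent F fun A : S => w (rep A) :=
    hP.linearIndependent P hwP fun A => hw0 _
  have hle : Fintype.card S ≤ finrank F ↥(fixSpace T) := by
    rw [← finrank_span_eq_card hli]
    exact Submodule.finrank_mono (Submodule.span_le.2 (by
      rintro _ ⟨A, rfl⟩
      exact h.sum_mem_fix _))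
  have hcover : (Finset.univ : Finset (Fin t)) ⊆ S.biUnion id := fun j _ =>
    Finset.mem_biUnion.2 ⟨O j, Finset.mem_image_of_mem O (Finset.mem_univ j), hOself j⟩
  have h1 : t ≤ S.card * r := by
    refine le_trans ?_ (Finset.card_biUnion_le_card_mul S id r fun A hA => ?_)
    · simpa using Finset.card_le_card hcover
    · obtain ⟨j, -, rfl⟩ := Finset.mem_image.1 hA
      exact Finset.card_image_le.trans (Finset.card_range r).le
  rw [Fintype.card_coe] at hle
  calc t ≤ S.card * r := h1
    _ ≤ finrank F ↥(fixSpace T) * r := Nat.mul_le_mul_right r hle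
    _ = r * finrank F ↥(fixSpace T) := mul_comm _ _

end Perms

variable {p : ℕ} [Fact p.Prime] [CharP F p] {q n : ℕ} [Fact r.Prime]

/-- An element with `s` moved blocks of one kind. -/
theorem exists_witness (hq : Fintype.card F = q) (hrp : r ≠ p) {s : ℕ} (hs : 1 ≤ s)
    (hc : 2 ≤ orderOf (q : ZMod r)) (hsn : s * orderOf (q : ZMod r) ≤ n) :
    ∃ (T : End F (Fin n → F)) (P : F[X]), T ^ r = 1 ∧ T ≠ 1 ∧
      finrank F ↥(fixSpace T) = n - s * orderOf (q : ZMod r) ∧ P ≠ 0 ∧
      P.natDegree ≤ orderOf (q : ZMod r) + 1 ∧ aeval T P = 0 := by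
  have hr := (Fact.out : r.Prime)
  set c := orderOf (q : ZMod r) with hcdef
  have hcdeg : 0 < (cyclotomic r F).natDegree := by
    rw [natDegree_cyclotomic, Nat.totient_prime hr]; have := hr.two_le; omega
  obtain ⟨g, hg, hgd⟩ := WfDvdMonoid.exists_irreducible_factor
    (not_isUnit_of_natDegree_pos _ hcdeg) (cyclotomic_ne_zero r F)
  have hdeg : g.natDegree = c := (uniform_cyclotomic hq hrp).2 g hg hgd
  have : Fact (Irreducible g) := ⟨hg⟩
  have : Module.Finite F (AdjoinRoot g) := (AdjoinRoot.powerBasis hg.ne_zero).finite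
  let e : ((Fin (n - s * c) → F) × (Fin s → AdjoinRoot g)) ≃ₗ[F] (Fin n → F) :=
    LinearEquiv.ofFinrankEq _ _ (by
      rw [Module.finrank_prod, Module.finrank_fin_fun, Module.finrank_pi_fintype, Finset.sum_const,
        Finset.card_univ, Fintype.card_fin,
        ((AdjoinRoot.powerBasis hg.ne_zero).finrank).trans (AdjoinRoot.powerBasis_dim hg.ne_zero),
        hdeg, Module.finrank_fin_fun, smul_eq_mul]
      exact Nat.sub_add_cancel hsn)
  let L : End F ((Fin (n - s * c) → F) × (Fin s → AdjoinRoot g)) :=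
    LinearMap.prodMap 1
      ((AdjoinRoot.root g • (1 : End (AdjoinRoot g) (Fin s → AdjoinRoot g))).restrictScalars F)
  have hLf : ∀ f : F[X], ∀ v, aeval L f v = (f.eval 1 • v.1, AdjoinRoot.mk g f • v.2) := by
    intro f
    induction f using Polynomial.induction_on with
    | C b =>
      intro v
      rw [aeval_C, Module.algebraMap_end_apply, eval_C, AdjoinRoot.mk_C]
      refine Prod.ext rfl ?_
      show b • v.2 = AdjoinRoot.of g b • v.2
      rw [← AdjoinRoot.algebraMap_eq, algebraMap_smul]
    | add f g' hf hg' =>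
      intro v
      rw [map_add, LinearMap.add_apply, hf, hg', eval_add, map_add, add_smul, add_smul, Prod.mk_add_mk]
    | monomial k b ih =>
      intro v
      rw [pow_succ, ← mul_assoc, map_mul, aeval_X, Module.End.mul_apply, ih,
        eval_mul (p := C b * X ^ k), eval_X, mul_one, map_mul (AdjoinRoot.mk g) (C b * X ^ k),
        AdjoinRoot.mk_X, mul_smul]
      rfl
  have hroot : AdjoinRoot.root g ^ r = 1 := by
    have h1 : g ∣ X ^ r - 1 := hgd.trans (Dvd.intro_left _ X_sub_one_mul_cyclotomic)
    have := AdjoinRoot.mk_eq_zero.2 h1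
    rwa [map_sub, map_pow, AdjoinRoot.mk_X, map_one, sub_eq_zero] at this
  have hne1 : AdjoinRoot.root g ≠ 1 := by
    intro h
    have h1 : g ∣ X - 1 := AdjoinRoot.mk_eq_zero.1 (by
      rw [map_sub, AdjoinRoot.mk_X, map_one, h, sub_self])
    have := uniform_X_sub_one.2 g hg h1
    omega
  have hkill : ∀ f : F[X], f.eval 1 = 0 → g ∣ f → aeval L f = 0 := fun f h1 h2 =>
    LinearMap.ext fun v => by rw [hLf, h1, AdjoinRoot.mk_eq_zero.2 h2, zero_smul, zero_smul]; rfl
  let T := e.conjAlgEquiv F L
  have haev : ∀ f : F[X], aeval T f = e.conjAlgEquiv F (aeval L f) := fun f =>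
    Polynomial.aeval_algHom_apply (e.conjAlgEquiv F).toAlgHom L f
  have hfix : fixSpace T = (Submodule.prod ⊤ ⊥).map e.toLinearMap := by
    ext v
    obtain ⟨w, rfl⟩ := e.surjective v
    have h1 : aeval T (X - 1 : F[X]) (e w) = e (aeval L (X - 1 : F[X]) w) := by
      rw [haev]
      show e (aeval L (X - 1 : F[X]) (e.symm (e w))) = _
      rw [e.symm_apply_apply]
    rw [fixSpace, LinearMap.mem_ker, h1, LinearEquiv.map_eq_zero_iff, hLf, Submodule.mem_map_equiv,
      e.symm_apply_apply, Submodule.mem_prod, map_sub, AdjoinRoot.mk_X, map_one]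
    simp [sub_ne_zero.2 hne1]
  have hfixdim : finrank F ↥(fixSpace T) = n - s * c := by
    have hrange : (Submodule.prod ⊤ ⊥ : Submodule F ((Fin (n - s * c) → F) × (Fin s → AdjoinRoot g))) =
        LinearMap.range (LinearMap.inl F (Fin (n - s * c) → F) (Fin s → AdjoinRoot g)) := by
      ext ⟨x, y⟩
      simp [eq_comm]
    rw [hfix, LinearEquiv.finrank_map_eq, hrange,
      LinearMap.finrank_range_of_inj LinearMap.inl_injective, Module.finrank_fin_fun]
  refine ⟨T, (X - 1) * g, ?_, ?_, hfixdim,
    mul_ne_zero (uniform_X_sub_one (F := F)).1 hg.ne_zero, ?_, ?_⟩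
  · have h1 := haev (X ^ r - 1)
    rw [hkill _ (by simp) (hgd.trans (Dvd.intro_left _ X_sub_one_mul_cyclotomic)), map_zero, map_sub,
      map_pow, aeval_X, map_one, sub_eq_zero] at h1
    exact h1
  · intro h1
    have htop : fixSpace T = ⊤ := eq_top_iff.2 fun v _ => by
      rw [mem_fixSpace, h1, Module.End.one_apply]
    rw [htop, finrank_top, Module.finrank_fin_fun] at hfixdim
    have : 0 < s * c := Nat.mul_pos hs (by omega)
    omega
  · refine natDegree_mul_le.trans ?_
    have h1 : (X - 1 : F[X]).natDegree ≤ 1 := by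
      rw [← map_one (C : F →+* F[X]), natDegree_X_sub_C]
    omega
  · rw [haev, hkill _ (by simp) (dvd_mul_left g _), map_zero]

/-- The necessary condition. -/
theorem necessity (hq : Fintype.card F = q) (hrp : r ≠ p) (hat : n = a * t) (ha : 1 ≤ a)
    (hc : 1 < orderOf (q : ZMod r)) (hcn : orderOf (q : ZMod r) ≤ n)
    (hall : ∀ T : End F (Fin n → F), T ^ r = 1 → T ≠ 1 → Stab a t T) :
    (a = 1 ∧ 1 < orderOf (q : ZMod r) ∧ orderOf (q : ZMod r) = r - 1 ∧
        n ≤ n % orderOf (q : ZMod r) * r) ∨
      (orderOf (q : ZMod r) ≤ a ∧ n % orderOf (q : ZMod r) = t * (a % orderOf (q : ZMod r))) := by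
  have hr := (Fact.out : r.Prime)
  have hdvd : orderOf (q : ZMod r) ∣ r - 1 := by
    refine ZMod.orderOf_dvd_card_sub_one fun h => ?_
    exact not_dvd_q (F := F) hq hrp ((ZMod.natCast_eq_zero_iff q r).1 h)
  have hc1 : orderOf (q : ZMod r) ≤ r - 1 :=
    Nat.le_of_dvd (by have := hr.two_le; omega) hdvd
  set c := orderOf (q : ZMod r) with hcdef
  have hmax : n - n / c * c = n % c := by
    have := Nat.div_add_mod' n c
    omega
  have hlarge : c ≤ a → (a = 1 ∧ 1 < c ∧ c = r - 1 ∧ n ≤ n % c * r) ∨ (c ≤ a ∧ n % c = t * (a % c)) := by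
    intro hca
    obtain ⟨T, P, hT, hT1, hfix, -, -, -⟩ := exists_witness (n := n) hq hrp (s := n / c)
      (Nat.div_pos hcn (by omega)) hc (Nat.div_mul_le_self n c)
    rw [← hcdef, hmax] at hfix
    obtain ⟨D, hD, σ, hσ⟩ := hall T hT hT1
    have h : Perms r a T D σ := ⟨hT, hD, hσ⟩
    have hlt := Nat.mod_lt n (show 0 < c by omega)
    have hfixed : ∀ j, σ j = j := fun j => by
      by_contra hj
      have := h.le_fix hj
      omega
    have h1 := h.mod_le_fix hq hrp hfixed
    rw [← hcdef, hfix] at h1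
    refine Or.inr ⟨hca, ?_⟩
    have h2 : n % c = t * (a % c) % c := by rw [Nat.mul_mod_mod, hat, mul_comm]
    rw [h2]
    exact Nat.mod_eq_of_lt (by omega)
  rcases Nat.lt_or_ge a c with hac | hac
  · rcases Nat.eq_or_lt_of_le ha with ha1 | ha2
    · obtain ⟨T, P, hT, hT1, hfix, hP0, hPdeg, hPT⟩ := exists_witness (n := n) hq hrp (s := n / c)
        (Nat.div_pos hcn (by omega)) hc (Nat.div_mul_le_self n c)
      rw [← hcdef, hmax] at hfix
      rw [← hcdef] at hPdeg
      obtain ⟨D, hD, σ, hσ⟩ := hall T hT hT1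
      have h : Perms r a T D σ := ⟨hT, hD, hσ⟩
      obtain ⟨j, hj⟩ : ∃ j, σ j ≠ j := by
        by_contra hno
        push Not at hno
        exact hT1 (h.eq_one_of_fixed hq hrp hac hno)
      have hcr : r ≤ c + 1 := by
        by_contra hlt
        exact hP0 (h.poly_eq_zero hj (by omega) hPT)
      have h1 := h.card_le hq hrp ha1.symm hc
      rw [hfix, mul_comm] at h1
      have htn : n = t := by rw [hat, ← ha1, one_mul]
      exact Or.inl ⟨ha1.symm, hc, by omega, by omega⟩
    · exfalso
      obtain ⟨T, P, hT, hT1, hfix, hP0, hPdeg, hPT⟩ := exists_witness (n := n) hq hrp (s := 1)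
        le_rfl hc (by omega)
      rw [← hcdef, one_mul] at hfix
      rw [← hcdef] at hPdeg
      obtain ⟨D, hD, σ, hσ⟩ := hall T hT hT1
      have h : Perms r a T D σ := ⟨hT, hD, hσ⟩
      obtain ⟨j, hj⟩ : ∃ j, σ j ≠ j := by
        by_contra hno
        push Not at hno
        exact hT1 (h.eq_one_of_fixed hq hrp hac hno)
      have hcr : r ≤ c + 1 := by
        by_contra hlt
        exact hP0 (h.poly_eq_zero hj (by omega) hPT)
      have h1 := h.le_move hj
      rw [hfix, Fintype.card_fin] at h1
      have h2 : 2 * (r - 1) ≤ a * (r - 1) := Nat.mul_le_mul_right _ ha2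
      omega
  · exact hlarge hac

end Cfsg.Agent.H73.Imprim
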