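import Cfsg.Agent.H73.Imprim.Basic

/-!
Elements of order `r` that do stabilize a decomposition.
-/

set_option autoImplicit false
set_option linter.unusedSectionVars false

namespace Cfsg.Agent.H73.Imprim

open Polynomial Module Finset Cfsg.Agent.Linear.Elusive

variable {F : Type*} [Field F] [Fintype F] {p : ℕ} [Fact p.Prime] [CharP F p] {q r : ℕ}
  [Fact r.Prime] {n a t : ℕ}

theorem squarefree_pow_sub_one (hrp : r ≠ p) : Squarefree (X ^ r - 1 : F[X]) :=
  (separable_pow_sub_one hrp).squarefree

theorem aeval_pow_sub_one {V : Type*} [AddCommGroup V] [Module F V] {T : End F V} (hT : T ^ r = 1) :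
    aeval T (X ^ r - 1 : F[X]) = 0 := by
  rw [map_sub, map_pow, aeval_X, map_one, hT, sub_self]

theorem sup_spaces_eq_top (hq : Fintype.card F = q) (hrp : r ≠ p) {V : Type*} [AddCommGroup V]
    [Module F V] [FiniteDimensional F V] {T : End F V} (hT : T ^ r = 1) :
    fixSpace T ⊔ moveSpace r T = ⊤ := by
  refine Submodule.eq_top_of_finrank_eq ?_
  rw [finrank_sup_eq (disjoint_spaces hrp T) le_rfl le_rfl]
  obtain ⟨k, h1, h2⟩ := dims_total hq hrp hT
  omega

/-- Invariant summands when the residues add up. -/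
theorem stab_of_mod (hq : Fintype.card F = q) (hrp : r ≠ p) (hat : n = a * t) (ha : 1 ≤ a)
    (ht : 2 ≤ t) {T : End F (Fin n → F)} (hT : T ^ r = 1)
    (hk : n % orderOf (q : ZMod r) = t * (a % orderOf (q : ZMod r))) : Stab a t T := by
  classical
  have hcpos := orderOf_pos_of_ne (F := F) (r := r) hq hrp
  obtain ⟨j, hj, hmove⟩ := dims_total hq hrp hT
  rw [Module.finrank_fin_fun] at hj
  set c := orderOf (q : ZMod r) with hc
  have hjt : j ≤ t * (a / c) := by
    have h1 : n / c = t * (a / c) := by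
      have e1 := Nat.div_add_mod n c
      have e2 := Nat.div_add_mod a c
      refine Nat.eq_of_mul_eq_mul_left hcpos ?_
      have e3 : c * (t * (a / c)) + t * (a % c) = n := by
        rw [hat]
        conv_rhs => rw [← e2]
        ring
      omega
    rw [← h1, Nat.le_div_iff_mul_le hcpos]
    omega
  obtain ⟨s, hs, hsum⟩ := exists_bounded_sum (a / c) t j hjt
  have hsc : ∀ i, s i * c ≤ a := fun i =>
    (Nat.mul_le_mul_right c (hs i)).trans (Nat.div_mul_le_self a c)
  obtain ⟨U, hU, hUA⟩ := exists_pieces (squarefree_pow_sub_one (F := F) hrp) (aeval_pow_sub_one hT)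
    (uniform_cyclotomic hq hrp) t s (moveSpace r T) (inv_ker_aeval T _)
    (fun v hv => LinearMap.mem_ker.1 hv) (by rw [hsum, hmove])
  obtain ⟨W, hW, hWA⟩ := exists_pieces (squarefree_pow_sub_one (F := F) hrp) (aeval_pow_sub_one hT)
    uniform_X_sub_one t (fun i => a - s i * c) (fixSpace T) (inv_ker_aeval T _)
    (fun v hv => LinearMap.mem_ker.1 hv) (by
      have h1 : ∑ i, (a - s i * c) + ∑ i, s i * c = n := by
        rw [← Finset.sum_add_distrib, Finset.sum_congr rfl (fun i _ => Nat.sub_add_cancel (hsc i))]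
        simp [hat, mul_comm]
      rw [← Finset.sum_mul, hsum] at h1
      rw [mul_one]
      omega)
  refine stab_of_parts (Fintype.card_fin n) hat ha ht (Fact.out : r.Prime).pos one_ne_zero
    (by rw [hT, one_smul]) (show t = 0 * r + t by omega) (fun i => i.elim0) (fun i => U i ⊔ W i)
    (fun i => i.elim0) (fun i => ?_) (fun i => (hU i).2.1.sup (hW i).2.1) fun S _ _ hS => ?_
  · rw [finrank_sup_eq (disjoint_spaces hrp T).symm (hU i).1 (hW i).1, (hU i).2.2, (hW i).2.2, mul_one]
    have := hsc i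
    simp only [hc] at this ⊢
    omega
  · refine eq_top_iff.2 ?_
    rw [← sup_spaces_eq_top hq hrp hT, ← hUA, ← hWA]
    exact sup_le (iSup_le fun i => le_sup_right.trans (hS i)) (iSup_le fun i => le_sup_left.trans (hS i))

/-- Lines permuted in regular orbits. -/
theorem stab_of_regular (hq : Fintype.card F = q) (hrp : r ≠ p) (ht : 2 ≤ n)
    {T : End F (Fin n → F)} (hT : T ^ r = 1) (hc : orderOf (q : ZMod r) = r - 1)
    (hn : n ≤ n % orderOf (q : ZMod r) * r) : Stab 1 n T := by
  classical
  have hr := (Fact.out : r.Prime)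
  have hcpos := orderOf_pos_of_ne (F := F) (r := r) hq hrp
  obtain ⟨j, hj, hmove⟩ := dims_total hq hrp hT
  rw [Module.finrank_fin_fun] at hj
  set f := finrank F ↥(fixSpace T) with hfdef
  set c := orderOf (q : ZMod r) with hcdef
  have hjf : j ≤ f := by
    have h1 : n % c = f % c := by rw [hj, Nat.add_mul_mod_self_right]
    have h2 := Nat.mod_le f c
    have h3 : n % c * r = n % c * c + n % c := by rw [show r = c + 1 by omega]; ring
    have h4 : j * c ≤ n % c * c := by omega
    have := Nat.le_of_mul_le_mul_right h4 hcpos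
    omega
  obtain ⟨U, hU, hUA⟩ := exists_pieces (squarefree_pow_sub_one (F := F) hrp) (aeval_pow_sub_one hT)
    (uniform_cyclotomic hq hrp) j (fun _ => 1) (moveSpace r T) (inv_ker_aeval T _)
    (fun v hv => LinearMap.mem_ker.1 hv) (by rw [hmove]; simp [hcdef])
  obtain ⟨W, hW, hWA⟩ := exists_pieces (squarefree_pow_sub_one (F := F) hrp) (aeval_pow_sub_one hT)
    uniform_X_sub_one f (fun _ => 1) (fixSpace T) (inv_ker_aeval T _)
    (fun v hv => LinearMap.mem_ker.1 hv) (by simp [hfdef])
  have hUne : ∀ b, ∃ v ∈ U b, v ≠ 0 := fun b => Submodule.exists_mem_ne_zero_of_ne_bot fun h => by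
    have := (hU b).2.2
    rw [h, finrank_bot] at this
    omega
  have hWne : ∀ b, ∃ v ∈ W b, v ≠ 0 := fun b => Submodule.exists_mem_ne_zero_of_ne_bot fun h => by
    have := (hW b).2.2
    rw [h, finrank_bot] at this
    omega
  choose e he he0 using hUne
  choose g hg hg0 using hWne
  have hcount : n = j * r + (f - j) := by
    have : j * r = j * c + j := by rw [show r = c + 1 by omega]; ring
    omega
  refine stab_of_parts (Fintype.card_fin n) (one_mul n).symm le_rfl ht hr.pos one_ne_zero
    (by rw [hT, one_smul]) hcount (fun b => F ∙ (e b + g (Fin.castLE hjf b)))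
    (fun i => W (Fin.cast (Nat.add_sub_cancel' hjf) (Fin.natAdd j i))) (fun b => ?_) (fun i => ?_)
    (fun i => (hW _).2.1) fun S iS hSE hSG => ?_
  · exact (finrank_span_le_card ({e b + g (Fin.castLE hjf b)} : Set (Fin n → F))).trans (by simp)
  · rw [(hW _).2.2, one_mul]
  have key : ∀ b, U b ≤ S ∧ W (Fin.castLE hjf b) ≤ S := by
    intro b
    set w := g (Fin.castLE hjf b)
    have hv : e b + w ∈ S := hSE b (Submodule.mem_span_singleton_self _)
    have hfw : T w = w := mem_fixSpace.1 ((hW _).1 (hg _))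
    have hpow : ∀ i : ℕ, (T ^ i) w = w := by
      intro i
      induction i with
      | zero => rfl
      | succ i ih => rw [pow_succ, Module.End.mul_apply, hfw, ih]
    have h1 : aeval T (cyclotomic r F) (e b + w) = (r : F) • w := by
      rw [map_add, LinearMap.mem_ker.1 ((hU b).1 (he b)), zero_add, cyclotomic_prime, map_sum,
        LinearMap.sum_apply, Finset.sum_congr rfl (fun i _ => by rw [map_pow, aeval_X, hpow i]),
        Finset.sum_const, Finset.card_range, Nat.cast_smul_eq_nsmul]
    have h2 : w ∈ S := by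
      have h3 := S.smul_mem (r : F)⁻¹ (h1 ▸ iS.aeval_mem (cyclotomic r F) hv)
      rwa [smul_smul, inv_mul_cancel₀ (cast_ne_zero (F := F) hrp), one_smul] at h3
    have h4 : e b ∈ S := by simpa using S.sub_mem hv h2
    exact ⟨le_of_mem (uniform_cyclotomic hq hrp) (hU b).2.1
      (fun v hv => LinearMap.mem_ker.1 ((hU b).1 hv)) (by rw [(hU b).2.2, one_mul]) iS (he b) h4 (he0 b),
      le_of_mem uniform_X_sub_one (hW _).2.1
      (fun v hv => LinearMap.mem_ker.1 ((hW _).1 hv)) (by rw [(hW _).2.2, one_mul]) iS (hg _) h2 (hg0 _)⟩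
  refine eq_top_iff.2 ?_
  rw [← sup_spaces_eq_top hq hrp hT, ← hUA, ← hWA]
  refine sup_le (iSup_le fun i => ?_) (iSup_le fun b => (key b).1)
  rcases Nat.lt_or_ge (i : ℕ) j with h | h
  · exact (key ⟨i, h⟩).2
  · have hi : i = Fin.cast (Nat.add_sub_cancel' hjf) (Fin.natAdd j ⟨(i : ℕ) - j, by omega⟩) := by
      ext
      simp
      omega
    rw [hi]
    exact hSG _

/-- No power scalar: the companion blocks. -/
theorem stab_of_irreducible (hat : n = a * t) (ha : 1 ≤ a) (ht : 2 ≤ t) {T : End F (Fin n → F)} {z : F}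
    (hz : ∀ b : F, b ^ r ≠ z) (hT : T ^ r = z • 1) : Stab a t T := by
  classical
  have hr := (Fact.out : r.Prime)
  have hz0 : z ≠ 0 := fun h => hz 0 (by rw [h, zero_pow hr.ne_zero])
  obtain ⟨hP, -, hdeg, -⟩ := uniform_pow_sub_C (F := F) hz
  have hu := uniform_of_irreducible hP
  rw [hdeg] at hu
  have hPT : aeval T (X ^ r - C z) = 0 := by
    rw [map_sub, map_pow, aeval_X, aeval_C, hT, Algebra.algebraMap_eq_smul_one, sub_self]
  obtain ⟨N, hN⟩ := dvd_finrank hu (inv_top T) (kill_top hPT)
  rw [finrank_top, Module.finrank_fin_fun] at hN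
  rcases hr.dvd_mul.1 (⟨N, hat.symm.trans hN⟩ : r ∣ a * t) with ⟨a', ha'⟩ | ⟨t', ht'⟩
  · obtain ⟨U, hU, hUA⟩ := exists_pieces hP.squarefree hPT hu t (fun _ => a') ⊤ (inv_top T)
      (kill_top hPT) (by simp [hat, ha']; ring)
    exact stab_of_parts (Fintype.card_fin n) hat ha ht hr.pos hz0 hT (show t = 0 * r + t by omega)
      (fun i => i.elim0) U (fun i => i.elim0) (fun i => by rw [(hU i).2.2, ha', mul_comm])
      (fun i => (hU i).2.1) fun S _ _ hS => eq_top_iff.2 (hUA ▸ iSup_le hS)
  · obtain ⟨U, hU, hUA⟩ := exists_pieces hP.squarefree hPT hu (t' * a) (fun _ => 1) ⊤ (inv_top T)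
      (kill_top hPT) (by simp [hat, ht']; ring)
    have hUne : ∀ b, ∃ v ∈ U b, v ≠ 0 := fun b => Submodule.exists_mem_ne_zero_of_ne_bot fun h => by
      have := (hU b).2.2
      rw [h, finrank_bot] at this
      have := hr.pos
      omega
    choose e he he0 using hUne
    refine stab_of_parts (Fintype.card_fin n) hat ha ht hr.pos hz0 hT
      (show t = t' * r + 0 by rw [ht', mul_comm, add_zero])
      (fun B => Submodule.span F (Set.range fun l : Fin a => e (finProdFinEquiv (B, l))))
      (fun i => i.elim0) (fun B => (finrank_range_le_card _).trans (Fintype.card_fin a).le)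
      (fun i => i.elim0) (fun i => i.elim0) fun S iS hS _ => eq_top_iff.2 (hUA ▸ iSup_le fun b => ?_)
    refine le_of_mem hu (hU b).2.1 (fun v _ => by rw [hPT, LinearMap.zero_apply])
      (by rw [(hU b).2.2, one_mul]) iS (he b) (hS (finProdFinEquiv.symm b).1 ?_) (he0 b)
    exact Submodule.subset_span ⟨(finProdFinEquiv.symm b).2,
      congrArg e (finProdFinEquiv.apply_symm_apply b)⟩

/-- Every element stabilizes when `r` divides `q - 1`. -/
theorem stab_of_one (hq : Fintype.card F = q) (hrp : r ≠ p) (hat : n = a * t) (ha : 1 ≤ a)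
    (ht : 2 ≤ t) (h1 : orderOf (q : ZMod r) = 1) {T : End F (Fin n → F)} {z : F} (hz : z ≠ 0)
    (hT : T ^ r = z • 1) : Stab a t T := by
  by_cases hpow : ∃ b : F, b ^ r = z
  · obtain ⟨b, hb⟩ := hpow
    have hb0 : b ≠ 0 := fun h => hz (by rw [← hb, h, zero_pow (Fact.out : r.Prime).ne_zero])
    refine (stab_smul (inv_ne_zero hb0)).1 (stab_of_mod hq hrp hat ha ht ?_ ?_)
    · rw [_root_.smul_pow, hT, smul_smul, inv_pow, hb, inv_mul_cancel₀ hz, one_smul]
    · rw [h1]
      simp [Nat.mod_one]
  · push Not at hpow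
    exact stab_of_irreducible hat ha ht hpow hT

end Cfsg.Agent.H73.Imprim
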