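import Cfsg.Agent.Symplectic.AltStd
import Cfsg.Agent.H73.Imprim.Necessity

/-!
Invariant non-degenerate subspaces of an isometry of an alternating form.
-/

set_option autoImplicit false
set_option linter.unusedSectionVars false

namespace Cfsg.Agent.H73.Imprim

open Polynomial Module Finset Cfsg.Agent.Linear.Elusive Cfsg.Agent.Symplectic
open LinearMap (BilinForm)

variable {F V : Type*} [Field F] [AddCommGroup V] [Module F V] {B : BilinForm F V}

/-- The form is non-degenerate on `U`. -/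
def ND (B : BilinForm F V) (U : Submodule F V) : Prop := ∀ u ∈ U, u ≠ 0 → ∃ v ∈ U, B u v ≠ 0

theorem swap_zero (hA : B.IsAlt) {u v : V} (h : B u v = 0) : B v u = 0 := hA.isRefl u v h

theorem mem_orth {U : Submodule F V} {x : V} : x ∈ B.orthogonal U ↔ ∀ n ∈ U, B n x = 0 := Iff.rfl

theorem nd_top (hB : B.Nondegenerate) : ND B ⊤ := fun u _ hu => by
  by_contra h
  push Not at h
  exact hu (hB.1 u fun v => h v Submodule.mem_top)

theorem nd_bot : ND B (⊥ : Submodule F V) := fun _ hu h0 => absurd ((Submodule.mem_bot F).1 hu) h0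

theorem ND.restrict (hA : B.IsAlt) {U : Submodule F V} (h : ND B U) : (B.restrict U).Nondegenerate := by
  have h1 : ∀ x : U, (∀ y : U, B.restrict U x y = 0) → x = 0 := fun x hx => by
    by_contra hne
    obtain ⟨v, hv, hxv⟩ := h x x.2 fun e => hne (Subtype.ext e)
    exact hxv (hx ⟨v, hv⟩)
  exact ⟨h1, fun y hy => h1 y fun x => swap_zero hA (hy x)⟩

theorem nd_of_disjoint (hA : B.IsAlt) {U : Submodule F V} (h : U ⊓ B.orthogonal U = ⊥) : ND B U :=
  fun u hu hu0 => by
    by_contra hno
    push Not at hno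
    have : u ∈ U ⊓ B.orthogonal U := ⟨hu, mem_orth.2 fun n hn => swap_zero hA (hno n hn)⟩
    rw [h] at this
    exact hu0 ((Submodule.mem_bot F).1 this)

theorem ND.disjoint (hA : B.IsAlt) {U W : Submodule F V} (hU : ND B U)
    (h : ∀ u ∈ U, ∀ w ∈ W, B u w = 0) : Disjoint U W := by
  rw [Submodule.disjoint_def]
  intro x hxU hxW
  by_contra h0
  obtain ⟨v, hv, hxv⟩ := hU x hxU h0
  exact hxv (swap_zero hA (h v hv x hxW))

theorem ND.sup (hA : B.IsAlt) {U W : Submodule F V} (hU : ND B U) (hW : ND B W)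
    (h : ∀ u ∈ U, ∀ w ∈ W, B u w = 0) : ND B (U ⊔ W) := by
  intro x hx hx0
  obtain ⟨u, hu, w, hw, rfl⟩ := Submodule.mem_sup.1 hx
  by_cases hu0 : u = 0
  · have hw0 : w ≠ 0 := fun e => hx0 (by rw [hu0, e, add_zero])
    obtain ⟨v, hv, hwv⟩ := hW w hw hw0
    exact ⟨v, Submodule.mem_sup_right hv, by simpa [hu0] using hwv⟩
  · obtain ⟨v, hv, huv⟩ := hU u hu hu0
    exact ⟨v, Submodule.mem_sup_left hv, by
      rw [map_add, LinearMap.add_apply, swap_zero hA (h v hv w hw), add_zero]
      exact huv⟩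

theorem indep_orth (hA : B.IsAlt) {ι : Type*} [Fintype ι] {P : ι → Submodule F V}
    (hP : ∀ i, ND B (P i)) (h : ∀ i j, i ≠ j → ∀ u ∈ P i, ∀ v ∈ P j, B u v = 0) : iSupIndep P := by
  rw [iSupIndep_def]
  intro i
  refine (hP i).disjoint hA fun u hu w hw => ?_
  have : (⨆ (j) (_ : j ≠ i), P j) ≤ LinearMap.ker (B u) :=
    iSup₂_le fun j hj v hv => h i j (Ne.symm hj) u hu v hv
  exact LinearMap.mem_ker.1 (this hw)

theorem inv_one (U : Submodule F V) : Linear.Elusive.Inv (1 : End F V) U := by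
  rintro _ ⟨v, hv, rfl⟩
  exact hv

variable [FiniteDimensional F V]

/-- A non-degenerate subspace has even dimension. -/
theorem ND.even (hA : B.IsAlt) {U : Submodule F V} (h : ND B U) : 2 ∣ finrank F U := by
  obtain ⟨m, e, hm, -⟩ := exists_std_equiv (fun x : U => hA (x : V)) (h.restrict hA)
  exact ⟨m, hm⟩

/-- The orthogonal complement inside a larger non-degenerate subspace. -/
theorem ND.compl (hA : B.IsAlt) {U A : Submodule F V} (hU : ND B U) (hAn : ND B A) (hUA : U ≤ A) :
    U ⊔ A ⊓ B.orthogonal U = A ∧ ND B (A ⊓ B.orthogonal U) ∧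
      finrank F A = finrank F U + finrank F ↥(A ⊓ B.orthogonal U) := by
  have hc := (LinearMap.BilinForm.restrict_nondegenerate_iff_isCompl_orthogonal hA.isRefl).mp
    (hU.restrict hA)
  have hsplit : U ⊔ A ⊓ B.orthogonal U = A := by
    rw [inf_comm A, ← sup_inf_assoc_of_le (B.orthogonal U) hUA, hc.sup_eq_top, top_inf_eq]
  refine ⟨hsplit, ?_, ?_⟩
  · intro x hx hx0
    obtain ⟨y, hy, hxy⟩ := hAn x hx.1 hx0
    obtain ⟨u, hu, w, hw, rfl⟩ := Submodule.mem_sup.1 (hsplit.symm ▸ hy : y ∈ U ⊔ A ⊓ B.orthogonal U)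
    refine ⟨w, hw, ?_⟩
    rwa [map_add, swap_zero hA (hx.2 u hu), zero_add] at hxy
  · have := finrank_sup_eq hc.disjoint (le_refl U) (inf_le_right : A ⊓ B.orthogonal U ≤ _)
    rwa [hsplit] at this

/-- A plane on which the form is non-degenerate. -/
theorem exists_plane (hA : B.IsAlt) {W : Submodule F V} (hW : ND B W) (hne : W ≠ ⊥) :
    ∃ U ≤ W, ND B U ∧ finrank F U = 2 := by
  obtain ⟨u, hu, hu0⟩ := Submodule.exists_mem_ne_zero_of_ne_bot hne
  obtain ⟨v, hv, huv⟩ := hW u hu hu0
  have hvu : B v u ≠ 0 := fun h => huv (swap_zero hA h)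
  refine ⟨Submodule.span F {u, v}, Submodule.span_le.2 (Set.pair_subset hu hv), ?_, ?_⟩
  · intro x hx hx0
    obtain ⟨s, t, rfl⟩ := Submodule.mem_span_pair.1 hx
    by_cases hs : s = 0
    · refine ⟨u, Submodule.subset_span (by simp), ?_⟩
      have ht : t ≠ 0 := fun h => hx0 (by simp [hs, h])
      simp [hs, ht, hvu]
    · refine ⟨v, Submodule.subset_span (by simp), ?_⟩
      simp [hA.self_eq_zero v, hs, huv]
  · have hli : LinearIndependent F ![u, v] := by
      refine LinearIndependent.pair_iff.2 fun s t h => ?_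
      have h1 := congrArg (fun x => B x v) h
      have h2 := congrArg (fun x => B u x) h
      simp [hA.self_eq_zero u, hA.self_eq_zero v, huv] at h1 h2
      exact ⟨h1, h2⟩
    have := finrank_span_eq_card hli
    rwa [Matrix.range_cons_cons_empty, Fintype.card_fin] at this

section isom

variable {T : End F V}

theorem map_eq_of_isom (hiso : ∀ u v, B (T u) (T v) = B u v) (hB : B.Nondegenerate)
    {U : Submodule F V} (hU : Linear.Elusive.Inv T U) : U.map T = U := by
  refine map_eq_of_inv (fun u v huv => sub_eq_zero.1 (hB.1 _ fun w => ?_)) hU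
  rw [← hiso, map_sub, huv, sub_self, map_zero, LinearMap.zero_apply]

theorem inv_orth (hiso : ∀ u v, B (T u) (T v) = B u v) (hB : B.Nondegenerate)
    {U : Submodule F V} (hU : Linear.Elusive.Inv T U) : Linear.Elusive.Inv T (B.orthogonal U) := by
  rintro _ ⟨x, hx, rfl⟩
  refine mem_orth.2 fun n hn => ?_
  obtain ⟨n', hn', rfl⟩ := (map_eq_of_isom hiso hB hU).symm.le hn
  rw [hiso]
  exact hx n' hn'

/-- Non-degenerate invariant pieces of the dimensions that are multiples of the block size. -/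
theorem exists_chunk (hA : B.IsAlt) (hB : B.Nondegenerate) (hiso : ∀ u v, B (T u) (T v) = B u v)
    {d : ℕ} {A : Submodule F V} (hAn : ND B A) (hAi : Linear.Elusive.Inv T A)
    (hblock : ∀ W ≤ A, ND B W → Linear.Elusive.Inv T W → W ≠ ⊥ →
      ∃ U ≤ W, ND B U ∧ Linear.Elusive.Inv T U ∧ finrank F U = d) :
    ∀ s, s * d ≤ finrank F A → ∃ U ≤ A, ND B U ∧ Linear.Elusive.Inv T U ∧ finrank F U = s * d := by
  intro s
  induction s with
  | zero => intro _; exact ⟨⊥, bot_le, nd_bot, inv_bot T, by simp⟩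
  | succ s ih =>
    intro hs
    rw [add_one_mul] at hs ⊢
    obtain ⟨U, hUA, hUn, hUi, hUd⟩ := ih (by omega)
    by_cases hd : d = 0
    · exact ⟨U, hUA, hUn, hUi, by omega⟩
    obtain ⟨-, hWn, hWd⟩ := hUn.compl hA hAn hUA
    have hWne : A ⊓ B.orthogonal U ≠ ⊥ := fun h => by
      rw [h, finrank_bot] at hWd
      omega
    obtain ⟨Z, hZW, hZn, hZi, hZd⟩ := hblock _ inf_le_left hWn (hAi.inf (inv_orth hiso hB hUi)) hWne
    have horth : ∀ u ∈ U, ∀ z ∈ Z, B u z = 0 := fun u hu z hz => (hZW hz).2 u hu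
    refine ⟨U ⊔ Z, sup_le hUA (hZW.trans inf_le_left), hUn.sup hA hZn horth, hUi.sup hZi, ?_⟩
    rw [finrank_sup_eq (hUn.disjoint hA horth) le_rfl le_rfl, hUd, hZd]

/-- An orthogonal splitting into invariant pieces with prescribed dimensions. -/
theorem exists_orth_pieces (hA : B.IsAlt) (hB : B.Nondegenerate)
    (hiso : ∀ u v, B (T u) (T v) = B u v) {d : ℕ} :
    ∀ (t : ℕ) (s : Fin t → ℕ) (A : Submodule F V), ND B A → Linear.Elusive.Inv T A →
      (∀ W ≤ A, ND B W → Linear.Elusive.Inv T W → W ≠ ⊥ →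
        ∃ U ≤ W, ND B U ∧ Linear.Elusive.Inv T U ∧ finrank F U = d) →
      (∑ i, s i) * d = finrank F A →
      ∃ U : Fin t → Submodule F V,
        (∀ i, U i ≤ A ∧ ND B (U i) ∧ Linear.Elusive.Inv T (U i) ∧ finrank F (U i) = s i * d) ∧
        (∀ i j, i ≠ j → ∀ u ∈ U i, ∀ v ∈ U j, B u v = 0) ∧ iSup U = A := by
  intro t
  induction t with
  | zero =>
    intro s A _ _ _ hdim
    refine ⟨fun i => i.elim0, fun i => i.elim0, fun i => i.elim0, ?_⟩
    rw [iSup_of_empty, eq_comm, ← Submodule.finrank_eq_zero]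
    simpa using hdim.symm
  | succ t ih =>
    intro s A hAn hAi hblock hdim
    rw [Fin.sum_univ_succ, Nat.add_mul] at hdim
    obtain ⟨U0, h0A, n0, i0, d0⟩ := exists_chunk hA hB hiso hAn hAi hblock (s 0) (by omega)
    obtain ⟨hsplit, hWn, hWd⟩ := n0.compl hA hAn h0A
    obtain ⟨U, hU, horth, hsup⟩ := ih (fun i => s i.succ) (A ⊓ B.orthogonal U0) hWn
      (hAi.inf (inv_orth hiso hB i0)) (fun W hW => hblock W (hW.trans inf_le_left)) (by omega)
    refine ⟨Fin.cons U0 U, ?_, ?_, ?_⟩
    · intro i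
      induction i using Fin.cases with
      | zero => exact ⟨h0A, n0, i0, d0⟩
      | succ i =>
        rw [Fin.cons_succ]
        exact ⟨(hU i).1.trans inf_le_left, (hU i).2⟩
    · intro i j hij u hu v hv
      induction i using Fin.cases with
      | zero =>
        induction j using Fin.cases with
        | zero => exact absurd rfl hij
        | succ j => exact ((hU j).1 (by simpa using hv)).2 u (by simpa using hu)
      | succ i =>
        induction j using Fin.cases with
        | zero => exact swap_zero hA (((hU i).1 (by simpa using hu)).2 v (by simpa using hv))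
        | succ j =>
          exact horth i j (fun e => hij (by rw [e])) u (by simpa using hu) v (by simpa using hv)
    · refine le_antisymm (iSup_le fun i => ?_) ?_
      · induction i using Fin.cases with
        | zero => exact h0A
        | succ i =>
          rw [Fin.cons_succ]
          exact (hU i).1.trans inf_le_left
      · conv_lhs => rw [← hsplit]
        refine sup_le (le_iSup (Fin.cons (α := fun _ => Submodule F V) U0 U) 0) ?_
        rw [← hsup]
        refine iSup_le fun i => ?_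
        exact le_trans (by rw [Fin.cons_succ]) (le_iSup (Fin.cons (α := fun _ => Submodule F V) U0 U) i.succ)

theorem exists_fixed_pieces (hA : B.IsAlt) (hB : B.Nondegenerate)
    (hiso : ∀ u v, B (T u) (T v) = B u v) {t : ℕ} (s : Fin t → ℕ) {A : Submodule F V} (hAn : ND B A)
    (hfix : ∀ v ∈ A, T v = v) (hdim : (∑ i, s i) * 2 = finrank F A) :
    ∃ U : Fin t → Submodule F V,
      (∀ i, U i ≤ A ∧ ND B (U i) ∧ Linear.Elusive.Inv T (U i) ∧ finrank F (U i) = s i * 2) ∧
      (∀ i j, i ≠ j → ∀ u ∈ U i, ∀ v ∈ U j, B u v = 0) ∧ iSup U = A := by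
  have hinv : ∀ W ≤ A, Linear.Elusive.Inv T W := by
    rintro W hW _ ⟨v, hv, rfl⟩
    rwa [hfix v (hW hv)]
  refine exists_orth_pieces hA hB hiso t s A hAn (hinv A le_rfl) (fun W hW hWn _ hne => ?_) hdim
  obtain ⟨U, hUW, hUn, hUd⟩ := exists_plane hA hWn hne
  exact ⟨U, hUW, hUn, hinv U (hUW.trans hW), hUd⟩

variable [Fintype F] {p : ℕ} [Fact p.Prime] [CharP F p] {q r : ℕ} [Fact r.Prime]

theorem pow_fix {v : V} (hv : T v = v) : ∀ k : ℕ, (T ^ k) v = v := by
  intro k
  induction k with
  | zero => rfl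
  | succ k ih => rw [pow_succ, Module.End.mul_apply, hv, ih]

/-- Fixed and moved vectors are orthogonal. -/
theorem orth_spaces (hA : B.IsAlt) (hrp : r ≠ p) (hiso : ∀ u v, B (T u) (T v) = B u v) :
    ∀ u ∈ fixSpace T, ∀ v ∈ moveSpace r T, B u v = 0 := by
  intro u hu v hv
  have hu' := mem_fixSpace.1 hu
  have hk : ∀ k : ℕ, B u ((T ^ k) v) = B u v := by
    intro k
    induction k with
    | zero => rfl
    | succ k ih =>
      conv_lhs => rw [← hu', pow_succ', Module.End.mul_apply, hiso]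
      exact ih
  have h0 : B u (aeval T (cyclotomic r F) v) = 0 := by rw [LinearMap.mem_ker.1 hv, map_zero]
  rw [cyclotomic_prime, map_sum, LinearMap.sum_apply, map_sum, Finset.sum_congr rfl
    (fun k _ => by rw [map_pow, aeval_X, hk k]), Finset.sum_const, Finset.card_range, nsmul_eq_mul] at h0
  exact (mul_eq_zero.1 h0).resolve_left (cast_ne_zero (F := F) hrp)

theorem ND.inf_fix (hA : B.IsAlt) (hrp : r ≠ p) (hiso : ∀ u v, B (T u) (T v) = B u v)
    (hT : T ^ r = 1) {U : Submodule F V} (hU : ND B U) (hUi : Linear.Elusive.Inv T U) :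
    ND B (U ⊓ fixSpace T) ∧ ND B (U ⊓ moveSpace r T) := by
  have h := split_finrank hrp hT hUi
  have hd := disjoint_spaces hrp T
  have hsup : U ⊓ fixSpace T ⊔ U ⊓ moveSpace r T = U :=
    Submodule.eq_of_le_of_finrank_eq (sup_le inf_le_left inf_le_left)
      (by rw [finrank_sup_eq hd inf_le_right inf_le_right, ← h])
  have key : ∀ x : V, x ∈ U → x ≠ 0 → ∀ A C : Submodule F V, U ⊓ A ⊔ U ⊓ C = U →
      (∀ c ∈ C, B x c = 0) → ∃ v ∈ U ⊓ A, B x v ≠ 0 := by
    intro x hx hx0 A C hAC hC
    obtain ⟨y, hy, hxy⟩ := hU x hx hx0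
    obtain ⟨a, ha, c, hc, rfl⟩ := Submodule.mem_sup.1 (hAC.symm ▸ hy : y ∈ U ⊓ A ⊔ U ⊓ C)
    exact ⟨a, ha, by rwa [map_add, hC c hc.2, add_zero] at hxy⟩
  exact ⟨fun x hx hx0 => key x hx.1 hx0 _ _ hsup fun c hc => orth_spaces hA hrp hiso x hx.2 c hc,
    fun x hx hx0 => key x hx.1 hx0 _ _ (by rw [sup_comm]; exact hsup)
      fun c hc => swap_zero hA (orth_spaces hA hrp hiso c hc x hx.2)⟩

theorem nd_spaces (hA : B.IsAlt) (hB : B.Nondegenerate) (hrp : r ≠ p)
    (hiso : ∀ u v, B (T u) (T v) = B u v) (hT : T ^ r = 1) :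
    ND B (fixSpace T) ∧ ND B (moveSpace r T) := by
  have := (nd_top hB).inf_fix hA hrp hiso hT (inv_top T)
  rwa [top_inf_eq, top_inf_eq] at this

/-- The moved part of a non-degenerate invariant subspace has dimension divisible by `c`. -/
theorem dvd_move (hq : Fintype.card F = q) (hA : B.IsAlt) (hrp : r ≠ p)
    (hiso : ∀ u v, B (T u) (T v) = B u v) (hT : T ^ r = 1) {c : ℕ}
    (hc : c = if Even (orderOf (q : ZMod r)) then orderOf (q : ZMod r) else 2 * orderOf (q : ZMod r))
    {U : Submodule F V} (hU : ND B U) (hUi : Linear.Elusive.Inv T U) :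
    c ∣ finrank F ↥(U ⊓ moveSpace r T) := by
  have h1 := moveSpace_dvd hq hrp U hUi
  have h2 := (hU.inf_fix hA hrp hiso hT hUi).2.even hA
  subst hc
  split
  · exact h1
  · rename_i hodd
    refine Nat.Coprime.mul_dvd_of_dvd_of_dvd ?_ h2 h1
    exact (Nat.prime_two.coprime_iff_not_dvd).2 fun h => hodd (even_iff_two_dvd.2 h)

theorem adjoint_aeval {Y : End F V} (hY : T * Y = 1) (hiso : ∀ u v, B (T u) (T v) = B u v)
    (f : F[X]) : ∀ a b, B (aeval T f a) b = B a (aeval Y f b) := by
  induction f using Polynomial.induction_on' with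
  | add f g hf hg => intro a b; simp only [map_add, LinearMap.add_apply, hf, hg]
  | monomial k c =>
    have hk : ∀ (k : ℕ) a b, B ((T ^ k) a) b = B a ((Y ^ k) b) := by
      intro k
      induction k with
      | zero => intro a b; rfl
      | succ k ih =>
        intro a b
        rw [pow_succ', Module.End.mul_apply, pow_succ, Module.End.mul_apply, ← ih]
        conv_lhs => rw [show b = T (Y b) by rw [← Module.End.mul_apply, hY, Module.End.one_apply]]
        rw [hiso]
    intro a b
    simp only [aeval_monomial, Module.End.mul_apply, Module.algebraMap_end_apply, map_smul,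
      LinearMap.smul_apply, hk]

/-- A vector whose image it is not orthogonal to. -/
theorem exists_pairing (hA : B.IsAlt) (hr2 : r ≠ 2) (hrp : r ≠ p)
    (hiso : ∀ u v, B (T u) (T v) = B u v) (hT : T ^ r = 1) {W : Submodule F V} (hW : ND B W)
    (hWi : Linear.Elusive.Inv T W) (hWm : W ≤ moveSpace r T) (hne : W ≠ ⊥) :
    ∃ v ∈ W, B v (T v) ≠ 0 := by
  by_contra hno
  push Not at hno
  have h1 : ∀ u ∈ W, ∀ w ∈ W, B u (T w) = B (T u) w := by
    intro u hu w hw
    have h := hno (u + w) (add_mem hu hw)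
    simp only [map_add, LinearMap.add_apply, hno u hu, hno w hw, zero_add, add_zero] at h
    rw [← hA.neg_eq w (T u)]
    linear_combination h
  have h2 : ∀ u ∈ W, T (T u) = u := by
    intro u hu
    by_contra hne'
    obtain ⟨w, hw, hw'⟩ := hW _ (sub_mem (hWi.mem (hWi.mem hu)) hu) (sub_ne_zero.2 hne')
    rw [map_sub, LinearMap.sub_apply, ← h1 _ (hWi.mem hu) w hw, hiso, sub_self] at hw'
    exact hw' rfl
  obtain ⟨u, hu, hu0⟩ := Submodule.exists_mem_ne_zero_of_ne_bot hne
  have heven : ∀ k : ℕ, (T ^ (2 * k)) u = u := by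
    intro k
    induction k with
    | zero => rfl
    | succ k ih =>
      rw [show 2 * (k + 1) = (2 * k).succ.succ by omega, pow_succ', Module.End.mul_apply, pow_succ',
        Module.End.mul_apply, ih, h2 u hu]
  obtain ⟨m, hm⟩ := (Fact.out : r.Prime).odd_of_ne_two hr2
  have h3 : T u = u := by
    have h4 := LinearMap.congr_fun hT u
    rwa [hm, pow_succ', Module.End.mul_apply, heven, Module.End.one_apply] at h4
  exact hu0 (Submodule.disjoint_def.1 (disjoint_spaces hrp T) u (mem_fixSpace.2 h3) (hWm hu))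

theorem exists_self_inverse (hq : Fintype.card F = q) (hrp : r ≠ p)
    (he : Even (orderOf (q : ZMod r))) :
    ∃ e : ℕ, r ∣ q ^ e + 1 := by
  obtain ⟨e, he⟩ := he
  have hpos := orderOf_pos_of_ne (F := F) (r := r) hq hrp
  refine ⟨e, ?_⟩
  rw [← ZMod.natCast_eq_zero_iff, Nat.cast_add, Nat.cast_pow, Nat.cast_one, add_eq_zero_iff_eq_neg]
  have h1 : ((q : ZMod r) ^ e) * ((q : ZMod r) ^ e) = 1 := by
    rw [← pow_add, ← he, pow_orderOf_eq_one]
  refine (mul_self_eq_one_iff.1 h1).resolve_left fun h2 => ?_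
  have := Nat.le_of_dvd (by omega) (orderOf_dvd_of_pow_eq_one h2)
  omega

/-- Moved non-degenerate subspaces contain blocks. -/
theorem exists_block (hq : Fintype.card F = q) (hA : B.IsAlt) (hB : B.Nondegenerate) (hr2 : r ≠ 2)
    (hrp : r ≠ p) (hiso : ∀ u v, B (T u) (T v) = B u v) (hT : T ^ r = 1) {c : ℕ}
    (hc : c = if Even (orderOf (q : ZMod r)) then orderOf (q : ZMod r) else 2 * orderOf (q : ZMod r))
    {W : Submodule F V} (hW : ND B W) (hWi : Linear.Elusive.Inv T W) (hWm : W ≤ moveSpace r T)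
    (hne : W ≠ ⊥) : ∃ U ≤ W, ND B U ∧ Linear.Elusive.Inv T U ∧ finrank F U = c := by
  have hr := (Fact.out : r.Prime)
  set i := orderOf (q : ZMod r) with hidef
  have hi := orderOf_pos_of_ne (F := F) (r := r) hq hrp
  have hPW : ∀ v ∈ W, aeval T (cyclotomic r F) v = 0 := fun v hv => LinearMap.mem_ker.1 (hWm hv)
  by_cases heven : Even i
  · rw [if_pos heven] at hc
    obtain ⟨e, he⟩ := exists_self_inverse hq hrp heven
    obtain ⟨w0, hw0, hw00⟩ := Submodule.exists_mem_ne_zero_of_ne_bot hne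
    obtain ⟨g, hg, hgd, w, hwW, hw, hgw⟩ := exists_factor (inv_bot T) hWi (cyclotomic r F)
      (cyclotomic_ne_zero r F) w0 hw0 (by simpa using hw00) (by rw [hPW w0 hw0]; exact zero_mem _)
    have hgdeg : g.natDegree = i := (uniform_cyclotomic hq hrp).2 g hg hgd
    have hug := uniform_of_irreducible hg
    rw [hgdeg] at hug
    set Y := T ^ (q ^ e) with hYdef
    have hTY : T * Y = 1 := by
      obtain ⟨k, hk⟩ := he
      rw [hYdef, ← pow_succ', hk, pow_mul, hT, one_pow]
    have hexp : ∀ j : ℕ, expand F (q ^ j) g = g ^ (q ^ j) := by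
      intro j
      induction j with
      | zero => simp
      | succ j ih =>
        rw [pow_succ, expand_mul, ← hq, FiniteField.expand_card, map_pow, hq, ih, ← pow_mul]
    have hgY : ∀ u, aeval T g u = 0 → aeval Y g u = 0 := by
      intro u hu
      rw [hYdef, ← expand_aeval, hexp, map_pow]
      obtain ⟨k, hk⟩ := Nat.exists_eq_succ_of_ne_zero
        (pow_ne_zero e (by rw [← hq]; exact Fintype.card_ne_zero) : q ^ e ≠ 0)
      rw [hk, pow_succ, Module.End.mul_apply, hu, map_zero]
    set Wg := W ⊓ LinearMap.ker (aeval T g) with hWg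
    obtain ⟨h, hh⟩ := hgd
    have hsq : Squarefree (cyclotomic r F) := (squarefree_pow_sub_one (F := F) hrp).squarefree_of_dvd
      (Dvd.intro_left _ X_sub_one_mul_cyclotomic)
    obtain ⟨a, b, hab⟩ : IsCoprime g h := hg.coprime_iff_not_dvd.2 fun hd => by
      obtain ⟨k, rfl⟩ := hd
      exact hg.not_isUnit (hsq g ⟨k, by rw [hh, mul_assoc]⟩)
    have hWgn : ND B Wg := by
      intro u hu hu0
      obtain ⟨z, hz, huz⟩ := hW u hu.1 hu0
      refine ⟨aeval T (b * h) z, ⟨hWi.aeval_mem _ hz, ?_⟩, ?_⟩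
      · rw [SetLike.mem_coe, LinearMap.mem_ker, ← Module.End.mul_apply, ← map_mul,
          show g * (b * h) = b * cyclotomic r F by rw [hh]; ring, map_mul, Module.End.mul_apply,
          hPW z hz, map_zero]
      · have e1 : z = aeval T (g * a) z + aeval T (b * h) z := by
          rw [← LinearMap.add_apply, ← map_add, mul_comm g a, hab, map_one, Module.End.one_apply]
        have e2 : B u (aeval T (g * a) z) = 0 := by
          apply swap_zero hA
          rw [map_mul, Module.End.mul_apply, adjoint_aeval hTY hiso,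
            hgY u (LinearMap.mem_ker.1 hu.2), map_zero]
        rwa [e1, map_add, e2, zero_add] at huz
    have hWgne : Wg ≠ ⊥ := fun h0 => hw (by
      have : w ∈ Wg := ⟨hwW, LinearMap.mem_ker.2 ((Submodule.mem_bot F).1 hgw)⟩
      rwa [h0] at this)
    have hWgi : Linear.Elusive.Inv T Wg := hWi.inf (inv_ker_aeval T g)
    obtain ⟨v, hv, hvT⟩ := exists_pairing hA hr2 hrp hiso hT hWgn hWgi (inf_le_left.trans hWm) hWgne
    let φ : F[X] →ₗ[F] V := (LinearMap.applyₗ v).comp (aeval T).toLinearMap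
    have hφ : ∀ f, φ f = aeval T f v := fun f => rfl
    set C := LinearMap.range φ
    have hCi : Linear.Elusive.Inv T C := by
      rintro _ ⟨_, ⟨f, rfl⟩, rfl⟩
      exact ⟨X * f, by rw [hφ, hφ, map_mul, aeval_X, Module.End.mul_apply]⟩
    have hCle : C ≤ Wg := by
      rintro _ ⟨f, rfl⟩
      exact hWgi.aeval_mem f hv
    have hvC : v ∈ C := ⟨1, by rw [hφ, map_one, Module.End.one_apply]⟩
    have hCdim : finrank F C ≤ i := by
      have hsub : C ≤ Submodule.span F (Set.range fun k : Fin i => (T ^ (k : ℕ)) v) := by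
        rintro _ ⟨f, rfl⟩
        have e1 : aeval T f v = aeval T (f % g) v := by
          conv_lhs => rw [← EuclideanDomain.mod_add_div f g]
          rw [map_add, LinearMap.add_apply, mul_comm g, map_mul, Module.End.mul_apply,
            LinearMap.mem_ker.1 hv.2, map_zero, add_zero]
        have e2 : (f % g).natDegree < i := by
          rw [← hgdeg]
          exact Polynomial.natDegree_mod_lt f (by omega)
        rw [hφ, e1, aeval_eq_sum_range' e2, LinearMap.sum_apply]
        refine Submodule.sum_mem _ fun k hk => ?_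
        rw [LinearMap.smul_apply]
        exact Submodule.smul_mem _ _ (Submodule.subset_span ⟨⟨k, Finset.mem_range.1 hk⟩, rfl⟩)
      exact (Submodule.finrank_mono hsub).trans ((finrank_range_le_card _).trans (Fintype.card_fin i).le)
    have hgC : ∀ x ∈ C, aeval T g x = 0 := fun x hx => LinearMap.mem_ker.1 (hCle hx).2
    have hv0 : v ≠ 0 := fun h0 => hvT (by rw [h0, map_zero, LinearMap.zero_apply])
    refine ⟨C, hCle.trans inf_le_left, nd_of_disjoint hA ?_, hCi, ?_⟩
    · by_contra hR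
      obtain ⟨x, hx, hx0⟩ := Submodule.exists_mem_ne_zero_of_ne_bot hR
      have h1 := le_of_mem hug hCi hgC hCdim (hCi.inf (inv_orth hiso hB hCi)) hx.1 hx hx0
      exact hvT (swap_zero hA ((h1 hvC).2 (T v) (hCi.mem hvC)))
    · refine le_antisymm (hc ▸ hCdim) ?_
      rw [hc]
      refine Nat.le_of_dvd ?_ (dvd_finrank hug hCi hgC)
      rw [Nat.pos_iff_ne_zero]
      intro h0
      rw [Submodule.finrank_eq_zero] at h0
      exact hv0 ((Submodule.mem_bot F).1 (h0 ▸ hvC))
  · rw [if_neg heven] at hc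
    have hu := uniform_cyclotomic (F := F) (r := r) hq hrp
    obtain ⟨N, hN⟩ := dvd_finrank hu hWi hPW
    obtain ⟨U, hU, hUA⟩ := exists_pieces (squarefree_pow_sub_one (F := F) hrp) (aeval_pow_sub_one hT)
      hu N (fun _ => 1) W hWi hPW (by rw [hN]; simp [mul_comm])
    have hkU : ∀ b, ∀ v ∈ U b, aeval T (cyclotomic r F) v = 0 := fun b v hv => hPW v ((hU b).1 hv)
    have hdU : ∀ b, finrank F (U b) = i := fun b => by rw [(hU b).2.2, one_mul]
    have hmeet : ∀ b, ∀ S : Submodule F V, Linear.Elusive.Inv T S → ∀ v ∈ U b, v ∈ S → v ≠ 0 →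
        U b ≤ S := fun b S hS v hvU hvS hv =>
      le_of_mem hu (hU b).2.1 (hkU b) (hdU b).le hS hvU hvS hv
    have hiso' : ∀ b, ∀ x ∈ U b, ∀ y ∈ U b, B x y = 0 := by
      intro b x hx y hy
      have hR : U b ⊓ B.orthogonal (U b) ≠ ⊥ := fun h0 => heven (by
        have := (nd_of_disjoint hA h0).even hA
        rw [hdU b] at this
        exact even_iff_two_dvd.2 this)
      obtain ⟨z, hz, hz0⟩ := Submodule.exists_mem_ne_zero_of_ne_bot hR
      exact (hmeet b _ (inv_orth hiso hB (hU b).2.1) z hz.1 hz.2 hz0 hy) x hx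
    obtain ⟨b, b', u0, hu0, w0, hw0, hne0⟩ : ∃ b b', ∃ u ∈ U b, ∃ w ∈ U b', B u w ≠ 0 := by
      by_contra hno
      push Not at hno
      refine hne ((Submodule.eq_bot_iff W).2 fun x hx => by_contra fun hx0 => ?_)
      obtain ⟨y, hy, hxy⟩ := hW x hx hx0
      have h1 : ∀ b, ∀ u ∈ U b, B u y = 0 := fun b u hub => by
        have : iSup U ≤ LinearMap.ker (B u) := iSup_le fun b' w hw => hno b b' u hub w hw
        exact LinearMap.mem_ker.1 (this (hUA.symm ▸ hy))
      have : iSup U ≤ LinearMap.ker (B.flip y) := iSup_le fun b u hub => h1 b u hub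
      exact hxy (LinearMap.mem_ker.1 (this (hUA.symm ▸ hx)))
    have hU0 : ∀ x ∈ U b, (∀ y ∈ U b', B y x = 0) → x = 0 := fun x hx hperp => by
      by_contra hx0
      exact hne0 (swap_zero hA (hmeet b _ (inv_orth hiso hB (hU b').2.1) x hx hperp hx0 hu0 w0 hw0))
    have hU0' : ∀ x ∈ U b', (∀ y ∈ U b, B y x = 0) → x = 0 := fun x hx hperp => by
      by_contra hx0
      exact hne0 (hmeet b' _ (inv_orth hiso hB (hU b).2.1) x hx hperp hx0 hw0 u0 hu0)
    have hdisj : Disjoint (U b) (U b') := by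
      rw [Submodule.disjoint_def]
      intro x hx hx'
      exact hU0 x hx fun y hy => hiso' b' y hy x hx'
    refine ⟨U b ⊔ U b', sup_le (hU b).1 (hU b').1, ?_, (hU b).2.1.sup (hU b').2.1, ?_⟩
    · intro x hx hx0
      by_contra hperp
      push Not at hperp
      obtain ⟨u, hu', w, hw, rfl⟩ := Submodule.mem_sup.1 hx
      have hu1 : u = 0 := hU0 u hu' fun y hy => swap_zero hA (by
        have := hperp y (Submodule.mem_sup_right hy)
        rwa [map_add, LinearMap.add_apply, hiso' b' w hw y hy, add_zero] at this)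
      have hw1 : w = 0 := hU0' w hw fun y hy => swap_zero hA (by
        have := hperp y (Submodule.mem_sup_left hy)
        rwa [map_add, LinearMap.add_apply, hiso' b u hu' y hy, zero_add] at this)
      exact hx0 (by rw [hu1, hw1, add_zero])
    · rw [finrank_sup_eq hdisj le_rfl le_rfl, hdU, hdU, hc, two_mul]

end isom

end Cfsg.Agent.H73.Imprim
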