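import Cfsg.Agent.H73.Imprim.Symp
import Cfsg.Agent.H73.Imprim.Count

/-!
Elements of odd prime order of symplectic groups and orthogonal decompositions.
-/

set_option autoImplicit false
set_option linter.unusedSectionVars false

namespace Cfsg.Agent.H73.Imprim

open Polynomial Module Finset Cfsg.Agent.Linear.Elusive Cfsg.Agent.Symplectic
open LinearMap (BilinForm)
open scoped Pointwise

variable {F : Type*} [Field F] {d : ℕ}

local notation "𝕍" => (Fin d ⊕ Fin d → F)

/-- Orthogonal decompositions into non-degenerate subspaces of dimension `a`. -/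
def OrthDecomp (a : ℕ) {t : ℕ} (D : Fin t → Submodule F 𝕍) : Prop :=
  Cfsg.Geo.IsMDecomposition a D ∧ (∀ j, ∀ u ∈ D j, u ≠ 0 → ∃ v ∈ D j, Cfsg.sympForm d F u v ≠ 0) ∧
    (∀ j j', j ≠ j' → ∀ u ∈ D j, ∀ v ∈ D j', Cfsg.sympForm d F u v = 0)

theorem OrthDecomp.nd {a t : ℕ} {D : Fin t → Submodule F 𝕍} (h : OrthDecomp a D) (j : Fin t) :
    ND (spB d F) (D j) := fun u hu hu0 => by
  obtain ⟨v, hv, huv⟩ := h.2.1 j u hu hu0
  exact ⟨v, hv, by rwa [spB_apply]⟩

theorem OrthDecomp.orth {a t : ℕ} {D : Fin t → Submodule F 𝕍} (h : OrthDecomp a D) :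
    ∀ i j, i ≠ j → ∀ u ∈ D i, ∀ v ∈ D j, spB d F u v = 0 := fun i j hij u hu v hv => by
  rw [spB_apply]
  exact h.2.2 i j hij u hu v hv

theorem finrank_space : finrank F 𝕍 = 2 * d := by
  rw [Module.finrank_fintype_fun_eq_card, Fintype.card_sum, Fintype.card_fin, two_mul]

theorem orthDecomp_of {a t : ℕ} (hat : 2 * d = a * t) (ha : 1 ≤ a) (ht : 2 ≤ t)
    {D : Fin t → Submodule F 𝕍} (hdim : ∀ j, finrank F (D j) ≤ a) (htop : iSup D = ⊤)
    (hnd : ∀ j, ND (spB d F) (D j)) (horth : ∀ i j, i ≠ j → ∀ u ∈ D i, ∀ v ∈ D j, spB d F u v = 0) :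
    OrthDecomp a D :=
  ⟨isMDecomposition_of_iSup (n := 2 * d) (by simp [two_mul]) hat ha ht hdim htop,
    fun j u hu hu0 => by
      obtain ⟨v, hv, huv⟩ := hnd j u hu hu0
      exact ⟨v, hv, by rwa [spB_apply] at huv⟩,
    fun i j hij u hu v hv => by rw [← spB_apply]; exact horth i j hij u hu v hv⟩

section glue

variable {V : Type*} [AddCommGroup V] [Module F V] {B : BilinForm F V}

/-- Isometries of the summands of two orthogonal splittings give an isometry. -/
theorem exists_glue {ι : Type*} [Fintype ι] [DecidableEq ι] {D D' : ι → Submodule F V}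
    (hD : iSupIndep D) (hDt : iSup D = ⊤) (hD' : iSupIndep D') (hDt' : iSup D' = ⊤)
    (horth : ∀ i j, i ≠ j → ∀ u ∈ D i, ∀ v ∈ D j, B u v = 0)
    (horth' : ∀ i j, i ≠ j → ∀ u ∈ D' i, ∀ v ∈ D' j, B u v = 0)
    (e : ∀ i, D i ≃ₗ[F] D' i) (he : ∀ i (x y : D i), B (e i x : V) (e i y) = B (x : V) y) :
    ∃ g : V ≃ₗ[F] V, (∀ u v, B (g u) (g v) = B u v) ∧
      ∀ x : Π i, D i, g (∑ i, (x i : V)) = ∑ i, (e i (x i) : V) := by
  have hb : ∀ {E : ι → Submodule F V}, iSupIndep E → iSup E = ⊤ → Function.Bijective (sumMap E) :=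
    fun {E} h1 h2 => ⟨sumMap_injective h1, LinearMap.range_eq_top.1 (by rw [range_sumMap, h2])⟩
  let P := LinearEquiv.ofBijective (sumMap D) (hb hD hDt)
  let P' := LinearEquiv.ofBijective (sumMap D') (hb hD' hDt')
  let g := (P.symm.trans (LinearEquiv.piCongrRight e)).trans P'
  have hg : ∀ x : Π i, D i, g (∑ i, (x i : V)) = ∑ i, (e i (x i) : V) := fun x => by
    have h1 : P.symm (∑ i, (x i : V)) = x := by
      rw [LinearEquiv.symm_apply_eq]
      exact (sumMap_apply D x).symm
    show sumMap D' (LinearEquiv.piCongrRight e (P.symm (∑ i, (x i : V)))) = _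
    rw [h1, sumMap_apply]
    exact Finset.sum_congr rfl fun i _ => by rw [LinearEquiv.piCongrRight_apply]
  refine ⟨g, fun u v => ?_, hg⟩
  obtain ⟨x, rfl⟩ := P.surjective u
  obtain ⟨y, rfl⟩ := P.surjective v
  have hP : ∀ z, P z = ∑ i, (z i : V) := sumMap_apply D
  rw [hP, hP, hg, hg]
  simp only [map_sum, LinearMap.sum_apply]
  refine Finset.sum_congr rfl fun i _ => ?_
  rw [Finset.sum_eq_single i (fun j _ hj => horth' j i hj _ (e j (x j)).2 _ (e i (y i)).2)
      (fun h => absurd (Finset.mem_univ i) h),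
    Finset.sum_eq_single i (fun j _ hj => horth j i hj _ (x j).2 _ (y i).2)
      (fun h => absurd (Finset.mem_univ i) h), he]

theorem glue_single {ι : Type*} [Fintype ι] [DecidableEq ι] {D D' : ι → Submodule F V}
    {e : ∀ i, D i ≃ₗ[F] D' i} {g : V ≃ₗ[F] V}
    (hg : ∀ x : Π i, D i, g (∑ i, (x i : V)) = ∑ i, (e i (x i) : V)) (i : ι) (v : D i) :
    g v = e i v := by
  have h := hg (Pi.single i v)
  rw [Finset.sum_eq_single i (fun j _ hj => by simp [Pi.single_eq_of_ne hj])
      (fun h => absurd (Finset.mem_univ i) h),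
    Finset.sum_eq_single i (fun j _ hj => by simp [Pi.single_eq_of_ne hj])
      (fun h => absurd (Finset.mem_univ i) h)] at h
  simpa using h

theorem exists_isometric [FiniteDimensional F V] (hA : B.IsAlt) {U U' : Submodule F V} (hU : ND B U)
    (hU' : ND B U') (hdim : finrank F U = finrank F U') :
    ∃ e : U ≃ₗ[F] U', ∀ x y : U, B (e x : V) (e y) = B (x : V) y :=
  exists_alt_equiv (fun x : U => hA (x : V)) (hU.restrict hA) (fun x : U' => hA (x : V))
    (hU'.restrict hA) hdim

end glue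

/-- Some orthogonal decomposition exists. -/
theorem exists_orthDecomp {a t : ℕ} (hat : 2 * d = a * t) (ha : 1 ≤ a) (hae : Even a) (ht : 2 ≤ t) :
    ∃ D : Fin t → Submodule F 𝕍, OrthDecomp a D := by
  obtain ⟨b, rfl⟩ := hae
  have hdim : (∑ _i : Fin t, b) * 2 = finrank F ↥(⊤ : Submodule F 𝕍) := by
    rw [finrank_top, finrank_space, hat, Finset.sum_const, Finset.card_univ, Fintype.card_fin,
      smul_eq_mul]
    ring
  obtain ⟨U, hU, horth, hsup⟩ := exists_fixed_pieces (T := (1 : End F 𝕍)) (spB_alt d F)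
    (spB_nondeg d F) (fun _ _ => rfl) (fun _ : Fin t => b) (nd_top (spB_nondeg d F))
    (fun _ _ => rfl) hdim
  exact ⟨U, orthDecomp_of hat ha ht (fun j => by rw [(hU j).2.2.2]; omega) hsup (fun j => (hU j).2.1)
    horth⟩

theorem OrthDecomp.exists_conj {a t : ℕ} {D D' : Fin t → Submodule F 𝕍} (h : OrthDecomp a D)
    (h' : OrthDecomp a D') :
    ∃ g : Isom (spB d F), ∀ j, (D j).map g.1.toLinearMap = D' j := by
  classical
  choose e he using fun j => exists_isometric (spB_alt d F) (h.nd j) (h'.nd j)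
    (by rw [h.1.finrank_eq, h'.1.finrank_eq])
  obtain ⟨g, hg, hge⟩ := exists_glue h.1.indep h.1.iSup_eq_top h'.1.indep h'.1.iSup_eq_top h.orth
    h'.orth e he
  refine ⟨⟨g, hg⟩, fun j => Submodule.eq_of_le_of_finrank_eq ?_ ?_⟩
  · rintro _ ⟨v, hv, rfl⟩
    show g v ∈ D' j
    rw [show g v = g ((⟨v, hv⟩ : D j) : 𝕍) from rfl, glue_single hge]
    exact (e j ⟨v, hv⟩).2
  · show finrank F ↥((D j).map g.toLinearMap) = _
    rw [LinearEquiv.finrank_map_eq, h.1.finrank_eq, h'.1.finrank_eq]

theorem card_orthDecomp_dvd [Fintype F] {a t : ℕ} (hat : 2 * d = a * t) (ha : 1 ≤ a) (hae : Even a)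
    (ht : 2 ≤ t) :
    Nat.card {D : Fin t → Submodule F 𝕍 // OrthDecomp a D} ∣ Nat.card (Isom (spB d F)) := by
  classical
  obtain ⟨D0, hD0⟩ := exists_orthDecomp (F := F) hat ha hae ht
  have hsm : ∀ (g : Isom (spB d F)) (j : Fin t), (g • D0) j = (D0 j).map g.1.toLinearMap :=
    fun g j => rfl
  have horb : MulAction.orbit (Isom (spB d F)) D0 =
      {D : Fin t → Submodule F 𝕍 | OrthDecomp a D} := by
    ext D
    constructor
    · rintro ⟨g, rfl⟩
      show OrthDecomp a fun j => (D0 j).map g.1.toLinearMap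
      refine orthDecomp_of hat ha ht
        (fun j => by rw [LinearEquiv.finrank_map_eq, hD0.1.finrank_eq]) ?_ (fun j => ?_)
        fun i j hij => ?_
      · show ⨆ j, (D0 j).map g.1.toLinearMap = ⊤
        rw [← Submodule.map_iSup, hD0.1.iSup_eq_top, Submodule.map_top, LinearEquiv.range]
      · rintro _ ⟨u, hu, rfl⟩ hu0
        obtain ⟨v, hv, huv⟩ := hD0.nd j u hu fun e => hu0 (by rw [e, map_zero])
        exact ⟨g.1 v, ⟨v, hv, rfl⟩, by
          show spB d F (g.1 u) (g.1 v) ≠ 0
          rwa [mem_isom.1 g.2]⟩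
      · rintro _ ⟨u, hu, rfl⟩ _ ⟨v, hv, rfl⟩
        show spB d F (g.1 u) (g.1 v) = 0
        rw [mem_isom.1 g.2]
        exact hD0.orth i j hij u hu v hv
    · intro hD
      obtain ⟨g, hg⟩ := hD0.exists_conj hD
      exact ⟨g, funext fun j => hg j⟩
  have h1 : Nat.card {D : Fin t → Submodule F 𝕍 // OrthDecomp a D} =
      (MulAction.stabilizer (Isom (spB d F)) D0).index := by
    rw [MulAction.index_stabilizer, horb]
    rfl
  rw [h1]
  exact Subgroup.index_dvd_card _

theorem factorial_dvd_orthDecomp {a t : ℕ} :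
    t.factorial ∣ Nat.card {D : Fin t → Submodule F 𝕍 // OrthDecomp a D} := by
  classical
  set X := {D : Fin t → Submodule F 𝕍 // OrthDecomp a D}
  letI : MulAction (Equiv.Perm (Fin t)) X :=
    { smul := fun σ D => ⟨fun j => D.1 (σ⁻¹ j),
        ⟨D.2.1.two_le, D.2.1.pos, fun j => D.2.1.finrank_eq _, D.2.1.indep.comp (Equiv.injective _),
          by rw [Equiv.iSup_comp (g := D.1) σ⁻¹]; exact D.2.1.iSup_eq_top⟩,
        fun j => D.2.2.1 _, fun j j' hj => D.2.2.2 _ _ fun e => hj ((Equiv.injective _) e)⟩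
      one_smul := fun D => Subtype.ext (funext fun j => by simp [HSMul.hSMul])
      mul_smul := fun σ τ D => Subtype.ext (funext fun j => by simp [HSMul.hSMul, mul_inv_rev]) }
  have hstab : ∀ D : X, MulAction.stabilizer (Equiv.Perm (Fin t)) D = ⊥ := by
    intro D
    rw [Subgroup.eq_bot_iff_forall]
    intro σ hσ
    have hinj : Function.Injective D.1 := D.2.1.indep.injective fun j hj => by
      have := D.2.1.finrank_eq j
      rw [hj, finrank_bot] at this
      have := D.2.1.pos
      omega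
    refine inv_eq_one.1 (Equiv.ext fun j => hinj ?_)
    exact congrFun (congrArg Subtype.val (MulAction.mem_stabilizer_iff.1 hσ)) j
  rw [Nat.card_congr (MulAction.selfEquivOrbitsQuotientProd hstab), Nat.card_prod, Nat.card_perm,
    Nat.card_fin]
  exact dvd_mul_left _ _

variable [Fintype F] {p : ℕ} [Fact p.Prime] [CharP F p] {q r : ℕ} [Fact r.Prime] {c : ℕ}

theorem two_dvd_c
    (hc : c = if Even (orderOf (q : ZMod r)) then orderOf (q : ZMod r) else 2 * orderOf (q : ZMod r)) :
    2 ∣ c := by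
  subst hc
  split
  · rename_i h; exact even_iff_two_dvd.1 h
  · exact dvd_mul_right 2 _

theorem c_le (hq : Fintype.card F = q) (hrp : r ≠ p)
    (hc : c = if Even (orderOf (q : ZMod r)) then orderOf (q : ZMod r) else 2 * orderOf (q : ZMod r))
    {a t : ℕ} (hat : 2 * d = a * t) (ha : 1 ≤ a) (hae : Even a) (ht : 2 ≤ t)
    (hΩ : r ∣ Nat.card {D : Fin t → Submodule F 𝕍 // OrthDecomp a D} / Nat.factorial t) :
    c ≤ 2 * d := by
  have hr := (Fact.out : r.Prime)
  have h1 : r ∣ Nat.card (Isom (spB d F)) :=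
    (hΩ.trans (Nat.div_dvd_of_dvd factorial_dvd_orthDecomp)).trans
      (card_orthDecomp_dvd hat ha hae ht)
  rw [card_isom_alt (spB_alt d F) (spB_nondeg d F), hq] at h1
  rcases hr.dvd_mul.1 h1 with h | h
  · exact absurd (hr.dvd_of_dvd_pow h) (not_dvd_q (F := F) hq hrp)
  · obtain ⟨j, hj, hdj⟩ := (hr.prime.dvd_finsetProd_iff _).1 h
    rw [Finset.mem_range, finrank_space, Nat.mul_div_cancel_left _ two_pos] at hj
    have h3 := (dvd_pow_sub_one_iff (hq ▸ Fintype.card_pos : 1 ≤ q) _).1 hdj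
    subst hc
    split
    · have := Nat.le_of_dvd (by omega) h3
      omega
    · rename_i hodd
      have hcop : Nat.Coprime 2 (orderOf (q : ZMod r)) :=
        (Nat.prime_two.coprime_iff_not_dvd).2 fun h => hodd (even_iff_two_dvd.2 h)
      have := Nat.le_of_dvd (by omega) (hcop.mul_dvd_of_dvd_of_dvd (dvd_mul_right 2 (j + 1)) h3)
      omega

/-- An element of order `r` of the symplectic group of the least dimension, moving everything. -/
theorem exists_small (hq : Fintype.card F = q) (hrp : r ≠ p) {m : ℕ} (hcm : c = 2 * m)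
    (hc : c = if Even (orderOf (q : ZMod r)) then orderOf (q : ZMod r) else 2 * orderOf (q : ZMod r)) :
    ∃ X : End F (Fin m ⊕ Fin m → F), (∀ u v, spB m F (X u) (X v) = spB m F u v) ∧ X ^ r = 1 ∧
      ∀ v, X v = v → v = 0 := by
  have hr := (Fact.out : r.Prime)
  have hi := orderOf_pos_of_ne (F := F) (r := r) hq hrp
  have hic : orderOf (q : ZMod r) ∣ c := by
    subst hc; split <;> simp
  have hm : 0 < m := by
    rcases Nat.eq_zero_or_pos m with h | h
    · subst h
      subst hc
      split at hcm <;> omega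
    · exact h
  haveI : Finite (Matrix.symplecticGroup (Fin m) F) := inferInstance
  have hcard : r ∣ Nat.card (Matrix.symplecticGroup (Fin m) F) := by
    rw [card_sp, hq]
    refine Dvd.dvd.mul_left ?_ _
    refine (hr.prime.dvd_finsetProd_iff _).2 ⟨m - 1, Finset.mem_range.2 (by omega), ?_⟩
    rw [dvd_pow_sub_one_iff (hq ▸ Fintype.card_pos : 1 ≤ q)]
    rwa [Nat.sub_add_cancel hm, ← hcm]
  obtain ⟨x, hx⟩ := exists_prime_orderOf_dvd_card' r hcard
  let X : End F (Fin m ⊕ Fin m → F) := Matrix.toLin' (x : Mat m F)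
  have hiso : ∀ u v, spB m F (X u) (X v) = spB m F u v := fun u v => toLin'_mem_isom x.2 u v
  have hXr : X ^ r = 1 := by
    show (Matrix.toLinAlgEquiv' (x : Mat m F)) ^ r = 1
    rw [← map_pow, ← SubmonoidClass.coe_pow, ← hx, pow_orderOf_eq_one, Submonoid.coe_one, map_one]
  refine ⟨X, hiso, hXr, fun v hv => ?_⟩
  have htop : ND (spB m F) (⊤ : Submodule F (Fin m ⊕ Fin m → F)) := nd_top (spB_nondeg m F)
  have hmove := dvd_move hq (spB_alt m F) hrp hiso hXr hc htop (inv_top X)
  rw [top_inf_eq] at hmove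
  have hsplit := split_finrank hrp hXr (inv_top X)
  rw [top_inf_eq, top_inf_eq, finrank_top, finrank_space] at hsplit
  rcases Nat.eq_zero_or_pos (finrank F ↥(moveSpace r X)) with h0 | hpos
  · exfalso
    have hfix : fixSpace X = ⊤ := Submodule.eq_top_of_finrank_eq (by rw [finrank_space]; omega)
    have hX1 : X = 1 := LinearMap.ext fun w =>
      mem_fixSpace.1 (hfix ▸ Submodule.mem_top : w ∈ fixSpace X)
    have hx1 : x = 1 := sp_ext fun w => by
      rw [Submonoid.coe_one, Matrix.one_mulVec]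
      exact LinearMap.congr_fun hX1 w
    rw [hx1, orderOf_one] at hx
    exact hr.one_lt.ne hx
  · have h1 := Nat.le_of_dvd hpos hmove
    have h2 : fixSpace X = ⊥ := Submodule.finrank_eq_zero.1 (by omega)
    exact (Submodule.mem_bot F).1 (h2 ▸ mem_fixSpace.2 hv)

/-- An isometry of order `r` with `s` blocks moved. -/
theorem exists_symp_witness (hq : Fintype.card F = q) (hrp : r ≠ p)
    (hc : c = if Even (orderOf (q : ZMod r)) then orderOf (q : ZMod r) else 2 * orderOf (q : ZMod r))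
    {s : ℕ} (hs : 1 ≤ s) (hsd : s * c ≤ 2 * d) :
    ∃ T : End F 𝕍, (∀ u v, spB d F (T u) (T v) = spB d F u v) ∧ T ^ r = 1 ∧ T ≠ 1 ∧
      finrank F ↥(fixSpace T) = 2 * d - s * c := by
  classical
  have hi := orderOf_pos_of_ne (F := F) (r := r) hq hrp
  obtain ⟨m, hm⟩ := two_dvd_c hc
  obtain ⟨X, hXiso, hXr, hXfix⟩ := exists_small (F := F) hq hrp hm hc
  have hsm : s * m ≤ d := by rw [hm, mul_left_comm] at hsd; omega
  let mult : Fin (s + 1) → ℕ := Fin.cons (d - s * m) (fun _ => m)
  obtain ⟨P, hP, horth, hsup⟩ := exists_fixed_pieces (T := (1 : End F 𝕍)) (spB_alt d F)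
    (spB_nondeg d F) (fun _ _ => rfl) mult (nd_top (spB_nondeg d F)) (fun _ _ => rfl) (by
      rw [finrank_top, finrank_space, Fin.sum_univ_succ]
      simp only [mult, Fin.cons_zero, Fin.cons_succ, Finset.sum_const, Finset.card_univ,
        Fintype.card_fin, smul_eq_mul]
      omega)
  have hindep := indep_orth (spB_alt d F) (fun i => (hP i).2.1) horth
  have hstd : ∀ i : Fin s, ∃ e : P i.succ ≃ₗ[F] (Fin m ⊕ Fin m → F),
      ∀ x y : P i.succ, spB m F (e x) (e y) = spB d F (x : 𝕍) y := fun i =>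
    exists_alt_equiv (fun x : P i.succ => spB_alt d F (x : 𝕍)) ((hP i.succ).2.1.restrict (spB_alt d F))
      (spB_alt m F) (spB_nondeg m F) (by
        rw [(hP i.succ).2.2.2, finrank_space]
        simp [mult, mul_comm])
  choose E hE using hstd
  have hXb : Function.Bijective X := by
    have hinj := injective_of_pow_eq (Fact.out : r.Prime).pos (one_ne_zero (α := F))
      (by rw [hXr, one_smul] : X ^ r = (1 : F) • 1)
    exact ⟨hinj, LinearMap.injective_iff_surjective.1 hinj⟩
  let Xe := LinearEquiv.ofBijective X hXb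
  let τ : ∀ i, P i ≃ₗ[F] P i :=
    Fin.cases (LinearEquiv.refl F _) fun i => ((E i).trans Xe).trans (E i).symm
  have hτ0 : τ 0 = LinearEquiv.refl F _ := rfl
  have hτs : ∀ (i : Fin s) x, τ i.succ x = (E i).symm (X (E i x)) := fun i x => rfl
  have hτiso : ∀ i (x y : P i), spB d F (τ i x : 𝕍) (τ i y) = spB d F (x : 𝕍) y := by
    intro i
    induction i using Fin.cases with
    | zero => intro x y; rfl
    | succ i =>
      intro x y
      rw [hτs, hτs, ← hE i, LinearEquiv.apply_symm_apply, LinearEquiv.apply_symm_apply, hXiso, hE i]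
  obtain ⟨g, hg, hgs⟩ := exists_glue hindep hsup hindep hsup horth horth τ hτiso
  let T : End F 𝕍 := g.toLinearMap
  have hT1 : ∀ i (x : P i), T (x : 𝕍) = τ i x := fun i x => glue_single hgs i x
  have hpow : ∀ (k : ℕ) i (x : P i), (T ^ k) (x : 𝕍) = (((τ i : End F (P i)) ^ k) x : 𝕍) := by
    intro k
    induction k with
    | zero => intro i x; rfl
    | succ k ih =>
      intro i x
      rw [pow_succ', Module.End.mul_apply, ih, hT1, pow_succ', Module.End.mul_apply]
      rfl
  have hτr : ∀ i (x : P i), ((τ i : End F (P i)) ^ r) x = x := by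
    intro i
    induction i using Fin.cases with
    | zero =>
      intro x
      rw [show ((τ 0 : P 0 ≃ₗ[F] P 0) : End F (P 0)) = 1 from rfl, one_pow]
      rfl
    | succ i =>
      intro x
      have hk : ∀ k : ℕ, ((τ i.succ : End F (P i.succ)) ^ k) x = (E i).symm ((X ^ k) (E i x)) := by
        intro k
        induction k with
        | zero => simp
        | succ k ih =>
          rw [pow_succ', Module.End.mul_apply, ih, pow_succ', Module.End.mul_apply]
          show τ i.succ _ = _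
          rw [hτs, LinearEquiv.apply_symm_apply]
      rw [hk, hXr, Module.End.one_apply, LinearEquiv.symm_apply_apply]
  have hTr : T ^ r = 1 := by
    refine LinearMap.ext_on_range (v := fun x : Σ i, P i => (x.2 : 𝕍)) ?_ fun x => ?_
    · rw [eq_top_iff, ← hsup]
      exact iSup_le fun i u hu => Submodule.subset_span ⟨⟨i, ⟨u, hu⟩⟩, rfl⟩
    · rw [hpow, hτr, Module.End.one_apply]
  have hfix : fixSpace T = P 0 := by
    refine le_antisymm (fun v hv => ?_) fun v hv => ?_
    · obtain ⟨x, rfl⟩ : ∃ x, sumMap P x = v := by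
        have := hsup ▸ range_sumMap P
        exact LinearMap.range_eq_top.1 this v
      rw [sumMap_apply] at hv ⊢
      have h1 : T (∑ i, (x i : 𝕍)) = ∑ i, (τ i (x i) : 𝕍) := hgs x
      rw [mem_fixSpace, h1] at hv
      have h2 := indep_coord hindep (fun i => (τ i (x i)).2) (fun i => (x i).2) hv
      rw [Fin.sum_univ_succ]
      refine add_mem (x 0).2 (Submodule.sum_mem _ fun i _ => ?_)
      have h3 : x i.succ = 0 := by
        have h4 : τ i.succ (x i.succ) = x i.succ := Subtype.ext (h2 i.succ)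
        rw [hτs, LinearEquiv.symm_apply_eq] at h4
        exact (E i).map_eq_zero_iff.1 (hXfix _ h4)
      rw [h3]
      exact zero_mem _
    · rw [mem_fixSpace, show v = ((⟨v, hv⟩ : P 0) : 𝕍) from rfl, hT1, hτ0]
      rfl
  have hd0 : finrank F (P 0) = 2 * d - s * c := by
    rw [(hP 0).2.2.2]
    simp only [mult, Fin.cons_zero]
    rw [hm, mul_left_comm]
    omega
  refine ⟨T, hg, hTr, fun h1 => ?_, by rw [hfix, hd0]⟩
  have htop : fixSpace T = ⊤ := eq_top_iff.2 fun v _ => by
    rw [mem_fixSpace, h1, Module.End.one_apply]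
  rw [hfix] at htop
  rw [htop, finrank_top, finrank_space] at hd0
  have : 0 < s * c := Nat.mul_pos hs (by subst hc; split <;> omega)
  omega

/-- Sufficiency. -/
theorem symp_stab (hq : Fintype.card F = q) (hr2 : r ≠ 2) (hrp : r ≠ p)
    (hc : c = if Even (orderOf (q : ZMod r)) then orderOf (q : ZMod r) else 2 * orderOf (q : ZMod r))
    {a t : ℕ} (hat : 2 * d = a * t) (ha : 1 ≤ a) (hae : Even a) (ht : 2 ≤ t)
    (hk : (2 * d) % c = t * (a % c)) {T : End F 𝕍}
    (hiso : ∀ u v, spB d F (T u) (T v) = spB d F u v) (hT : T ^ r = 1) :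
    ∃ D : Fin t → Submodule F 𝕍, OrthDecomp a D ∧ ∀ j, (D j).map T = D j := by
  classical
  have hA := spB_alt d F
  have hB := spB_nondeg d F
  have hi := orderOf_pos_of_ne (F := F) (r := r) hq hrp
  have hcpos : 0 < c := by subst hc; split <;> omega
  obtain ⟨hfn, hmn⟩ := nd_spaces hA hB hrp hiso hT
  have hcdvd := dvd_move hq hA hrp hiso hT hc (nd_top hB) (inv_top T)
  rw [top_inf_eq] at hcdvd
  obtain ⟨j, hj⟩ := hcdvd
  have hsplit := split_finrank hrp hT (inv_top T)
  rw [top_inf_eq, top_inf_eq, finrank_top, finrank_space, hj] at hsplit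
  have hjt : j ≤ t * (a / c) := by
    have e1 := Nat.div_add_mod (2 * d) c
    have e2 := Nat.div_add_mod a c
    have e3 : c * (t * (a / c)) + t * (a % c) = 2 * d := by
      rw [hat]
      conv_rhs => rw [← e2]
      ring
    have h1 : (2 * d) / c = t * (a / c) := Nat.eq_of_mul_eq_mul_left hcpos (by omega)
    rw [← h1, Nat.le_div_iff_mul_le hcpos, mul_comm j c]
    omega
  obtain ⟨s, hs, hsum⟩ := exists_bounded_sum (a / c) t j hjt
  have hsc : ∀ i, s i * c ≤ a := fun i =>
    (Nat.mul_le_mul_right c (hs i)).trans (Nat.div_mul_le_self a c)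
  obtain ⟨b, hb⟩ := hae
  obtain ⟨m, hm⟩ := two_dvd_c hc
  obtain ⟨U, hU, hUo, hUA⟩ := exists_orth_pieces hA hB hiso (d := c) t s (moveSpace r T) hmn
    (inv_ker_aeval T _)
    (fun W hW hWn hWi hne => exists_block hq hA hB hr2 hrp hiso hT hc hWn hWi hW hne)
    (by rw [hsum, hj, mul_comm])
  have hsm : ∀ i, s i * m ≤ b := fun i => by
    have := hsc i
    rw [hm, mul_left_comm, hb] at this
    omega
  obtain ⟨W, hW, hWo, hWA⟩ := exists_fixed_pieces hA hB hiso (fun i => b - s i * m) hfn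
    (fun v hv => mem_fixSpace.1 hv) (by
      have h1 : ∑ i, (b - s i * m) + ∑ i, s i * m = d := by
        rw [← Finset.sum_add_distrib, Finset.sum_congr rfl (fun i _ => Nat.sub_add_cancel (hsm i)),
          Finset.sum_const, Finset.card_univ, Fintype.card_fin, smul_eq_mul]
        rw [hb, add_mul, ← two_mul, mul_comm b t] at hat
        omega
      rw [← Finset.sum_mul, hsum] at h1
      rw [hm, mul_assoc, mul_comm m j] at hsplit
      omega)
  have hfm : ∀ u ∈ fixSpace T, ∀ v ∈ moveSpace r T, spB d F u v = 0 := orth_spaces hA hrp hiso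
  refine ⟨fun i => U i ⊔ W i, orthDecomp_of hat ha ht (fun i => ?_) ?_ (fun i => ?_) fun i j hij => ?_,
    fun i => map_eq_of_isom hiso hB ((hU i).2.2.1.sup (hW i).2.2.1)⟩
  · rw [finrank_sup_eq (disjoint_spaces hrp T).symm (hU i).1 (hW i).1, (hU i).2.2.2, (hW i).2.2.2]
    have := hsm i
    rw [hm, mul_left_comm]
    omega
  · refine eq_top_iff.2 ?_
    rw [← sup_spaces_eq_top hq hrp hT, ← hUA, ← hWA]
    exact sup_le (iSup_mono fun i => le_sup_right) (iSup_mono fun i => le_sup_left)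
  · exact (hU i).2.1.sup hA (hW i).2.1 fun u hu w hw =>
      swap_zero hA (hfm w ((hW i).1 hw) u ((hU i).1 hu))
  · intro x hx y hy
    obtain ⟨x1, hx1, x2, hx2, rfl⟩ := Submodule.mem_sup.1 hx
    obtain ⟨y1, hy1, y2, hy2, rfl⟩ := Submodule.mem_sup.1 hy
    simp only [map_add, LinearMap.add_apply, hUo i j hij x1 hx1 y1 hy1, hWo i j hij x2 hx2 y2 hy2,
      swap_zero hA (hfm y2 ((hW j).1 hy2) x1 ((hU i).1 hx1)), hfm x2 ((hW i).1 hx2) y1 ((hU j).1 hy1),
      add_zero]

/-- Necessity. -/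
theorem symp_necessity (hq : Fintype.card F = q) (hrp : r ≠ p)
    (hc : c = if Even (orderOf (q : ZMod r)) then orderOf (q : ZMod r) else 2 * orderOf (q : ZMod r))
    {a t : ℕ} (hat : 2 * d = a * t) (ha : 2 ≤ a) (hr2 : r ≠ 2) (hcd : c ≤ 2 * d)
    (hall : ∀ T : End F 𝕍, (∀ u v, spB d F (T u) (T v) = spB d F u v) → T ^ r = 1 → T ≠ 1 →
      ∃ D : Fin t → Submodule F 𝕍, OrthDecomp a D ∧
        ∃ σ : Equiv.Perm (Fin t), ∀ j, (D j).map T = D (σ j)) :
    c ≤ a ∧ (2 * d) % c = t * (a % c) := by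
  have hr := (Fact.out : r.Prime)
  have hA := spB_alt d F
  have hi := orderOf_pos_of_ne (F := F) (r := r) hq hrp
  have hcpos : 0 < c := by subst hc; split <;> omega
  have hcr : c ≤ r - 1 := by
    have hd : orderOf (q : ZMod r) ∣ r - 1 := ZMod.orderOf_dvd_card_sub_one fun h =>
      not_dvd_q (F := F) hq hrp ((ZMod.natCast_eq_zero_iff q r).1 h)
    have hev : 2 ∣ r - 1 := by
      obtain ⟨k, hk⟩ := hr.odd_of_ne_two hr2
      omega
    have hpos : 0 < r - 1 := by have := hr.two_le; omega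
    subst hc
    split
    · exact Nat.le_of_dvd hpos hd
    · rename_i hodd
      exact Nat.le_of_dvd hpos (Nat.Coprime.mul_dvd_of_dvd_of_dvd
        ((Nat.prime_two.coprime_iff_not_dvd).2 fun h => hodd (even_iff_two_dvd.2 h)) hev hd)
  have hfixed : ∀ (T : End F 𝕍) (D : Fin t → Submodule F 𝕍) (σ : Equiv.Perm (Fin t)),
      (∀ u v, spB d F (T u) (T v) = spB d F u v) → OrthDecomp a D → Perms r a T D σ →
      ∀ j, σ j = j → ∃ k, a = finrank F ↥(D j ⊓ fixSpace T) + c * k := by
    intro T D σ hiso hD h j hj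
    obtain ⟨k, hk⟩ := dvd_move hq hA hrp hiso h.pow_eq hc (hD.nd j) (h.inv_of_fixed hj)
    have := split_finrank hrp h.pow_eq (h.inv_of_fixed hj)
    rw [hD.1.finrank_eq, hk] at this
    exact ⟨k, this⟩
  rcases Nat.lt_or_ge a c with hac | hac
  · exfalso
    obtain ⟨T, hiso, hT, hT1, hfix⟩ := exists_symp_witness (d := d) hq hrp hc (s := 1) le_rfl
      (by omega)
    obtain ⟨D, hD, σ, hσ⟩ := hall T hiso hT hT1
    have h : Perms r a T D σ := ⟨hT, hD.1, hσ⟩
    obtain ⟨j, hj⟩ : ∃ j, σ j ≠ j := by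
      by_contra hno
      push Not at hno
      refine hT1 (LinearMap.ext fun v => mem_fixSpace.1 ?_)
      have hv : v ∈ iSup D := hD.1.iSup_eq_top ▸ Submodule.mem_top
      refine (iSup_le fun j => ?_ : iSup D ≤ fixSpace T) hv
      obtain ⟨k, hk⟩ := hfixed T D σ hiso hD h j (hno j)
      rcases Nat.eq_zero_or_pos k with rfl | hk0
      · exact inf_eq_left.1 (Submodule.eq_of_le_of_finrank_le inf_le_left
          (by rw [hD.1.finrank_eq]; omega))
      · have := Nat.le_mul_of_pos_right c hk0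
        omega
    have h1 := h.le_move hj
    rw [hfix, one_mul, Fintype.card_sum, Fintype.card_fin] at h1
    have h2 : 2 * (r - 1) ≤ a * (r - 1) := Nat.mul_le_mul_right _ ha
    omega
  · refine ⟨hac, ?_⟩
    have hmax : 2 * d - (2 * d) / c * c = (2 * d) % c := by
      have := Nat.div_add_mod' (2 * d) c
      omega
    obtain ⟨T, hiso, hT, hT1, hfix⟩ := exists_symp_witness (d := d) hq hrp hc (s := (2 * d) / c)
      (Nat.div_pos hcd hcpos) (Nat.div_mul_le_self _ c)
    rw [hmax] at hfix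
    obtain ⟨D, hD, σ, hσ⟩ := hall T hiso hT hT1
    have h : Perms r a T D σ := ⟨hT, hD.1, hσ⟩
    have hlt := Nat.mod_lt (2 * d) hcpos
    have hfx : ∀ j, σ j = j := fun j => by
      by_contra hj
      have := h.le_fix hj
      omega
    have h1 : t * (a % c) ≤ finrank F ↥(fixSpace T) := by
      refine le_trans ?_ (sum_finrank_le (h.decomp.indep.mono fun j => inf_le_left)
        (fun j => (inf_le_right : D j ⊓ fixSpace T ≤ fixSpace T)))
      refine le_trans (le_of_eq (by simp : t * (a % c) = ∑ _j : Fin t, a % c))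
        (Finset.sum_le_sum fun j _ => ?_)
      obtain ⟨k, hk⟩ := hfixed T D σ hiso hD h j (hfx j)
      conv_lhs => rw [hk, Nat.add_mul_mod_self_left]
      exact Nat.mod_le _ _
    rw [hfix] at h1
    have h2 : (2 * d) % c = t * (a % c) % c := by rw [Nat.mul_mod_mod, hat, mul_comm]
    rw [h2]
    exact Nat.mod_eq_of_lt (by omega)

end Cfsg.Agent.H73.Imprim
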